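import Mathlib
import Cfsg.Agent.LieClassical.OrthFinite
import Cfsg.Agent.H884.OmegaGL
import Cfsg.Agent.H141.SpinOdd
set_option linter.all false

-- part: H434/CornBase
section
/-!
# Corners of isometries I: totally singular subspaces, dual pairs (helper434)

* `TS Q W`, `MaxTS Q W`: (maximal) totally singular subspaces;
* `DP Q W W'`: dual pairs of totally singular subspaces;
* existence of a dual partner containing a prescribed totally singular subspace.
-/

set_option autoImplicit false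

namespace Cfsg.Agent.H434.Corn

open Module QuadraticMap Cfsg.Agent.LieClassical.OrthCore Cfsg.Agent.LieClassical.OrthTrans

variable {F V : Type*} [Field F] [AddCommGroup V] [Module F V] {Q : QuadraticForm F V}

/-- Totally singular subspaces. -/
def TS (Q : QuadraticForm F V) (W : Submodule F V) : Prop := ∀ x ∈ W, Q x = 0

theorem TS.pz {W : Submodule F V} (h : TS Q W) {x y : V} (hx : x ∈ W) (hy : y ∈ W) :
    polar Q x y = 0 := by
  have h1 := Q_add (Q := Q) x y
  rw [h _ (W.add_mem hx hy), h x hx, h y hy] at h1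
  linear_combination -h1

theorem TS.mono {W W' : Submodule F V} (h : TS Q W) (hle : W' ≤ W) : TS Q W' := fun x hx => h x (hle hx)

/-- Maximal totally singular subspaces. -/
structure MaxTS (Q : QuadraticForm F V) (W : Submodule F V) : Prop where
  ts : TS Q W
  max : ∀ x, Q x = 0 → (∀ w ∈ W, polar Q w x = 0) → x ∈ W

theorem TS.sup_span {W : Submodule F V} (h : TS Q W) {x : V} (hx : Q x = 0)
    (hp : ∀ w ∈ W, polar Q w x = 0) : TS Q (W ⊔ Submodule.span F {x}) := by
  intro y hy
  obtain ⟨w, hw, z, hz, rfl⟩ := Submodule.mem_sup.1 hy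
  obtain ⟨c, rfl⟩ := Submodule.mem_span_singleton.1 hz
  rw [Q_add, h w hw, QuadraticMap.map_smul, hx, polar_smul_right, hp w hw]
  simp

theorem exists_maxTS [FiniteDimensional F V] {T : Submodule F V} (hT : TS Q T) :
    ∃ W, T ≤ W ∧ MaxTS Q W := by
  classical
  have hb : ∃ n, ∃ W : Submodule F V, T ≤ W ∧ TS Q W ∧ finrank F V - finrank F W = n := ⟨_, T, le_rfl, hT, rfl⟩
  obtain ⟨W, hTW, hW, hn⟩ := Nat.find_spec hb
  refine ⟨W, hTW, hW, fun x hx hp => ?_⟩
  by_contra hxW
  have hlt : W < W ⊔ Submodule.span F {x} := by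
    refine lt_of_le_of_ne le_sup_left (fun h => hxW ?_)
    rw [h]
    exact Submodule.mem_sup_right (Submodule.mem_span_singleton_self x)
  have h1 := Submodule.finrank_lt_finrank_of_lt hlt
  have h2 := Submodule.finrank_le (W ⊔ Submodule.span F {x})
  exact Nat.find_min hb (m := finrank F V - finrank F ↥(W ⊔ Submodule.span F {x})) (by omega)
    ⟨_, hTW.trans le_sup_left, hW.sup_span hx hp, rfl⟩

theorem MaxTS.map {W : Submodule F V} (h : MaxTS Q W) {g : V ≃ₗ[F] V} (hg : g ∈ O Q) :
    MaxTS Q (W.map g.toLinearMap) where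
  ts := by
    rintro _ ⟨x, hx, rfl⟩
    show Q (g x) = 0
    rw [mem_O.1 hg]
    exact h.ts x hx
  max := by
    intro y hy hp
    obtain ⟨x, rfl⟩ := g.surjective y
    refine ⟨x, h.max x ?_ (fun w hw => ?_), rfl⟩
    · rw [← mem_O.1 hg]; exact hy
    · rw [← polar_map hg]; exact hp _ ⟨w, hw, rfl⟩

/-- The orthogonal space. -/
def perp (Q : QuadraticForm F V) (W : Submodule F V) : Submodule F V where
  carrier := {v | ∀ w ∈ W, polar Q w v = 0}
  add_mem' {a b} ha hb := fun w hw => by rw [polar_add_right, ha w hw, hb w hw, add_zero]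
  zero_mem' := fun w _ => by rw [polar_zero_right]
  smul_mem' c {a} ha := fun w hw => by rw [polar_smul_right, ha w hw, smul_zero]

theorem mem_perp {W : Submodule F V} {v : V} : v ∈ perp Q W ↔ ∀ w ∈ W, polar Q w v = 0 := Iff.rfl

/-- Dual pairs of totally singular subspaces. -/
structure DP (Q : QuadraticForm F V) (W W' : Submodule F V) : Prop where
  ts : TS Q W
  ts' : TS Q W'
  nd : ∀ w ∈ W, (∀ x ∈ W', polar Q w x = 0) → w = 0
  nd' : ∀ x ∈ W', (∀ w ∈ W, polar Q w x = 0) → x = 0

theorem DP.symm {W W' : Submodule F V} (h : DP Q W W') : DP Q W' W where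
  ts := h.ts'
  ts' := h.ts
  nd := fun w hw hp => h.nd' w hw (fun x hx => by rw [polar_comm]; exact hp x hx)
  nd' := fun w hw hp => h.nd w hw (fun x hx => by rw [polar_comm]; exact hp x hx)

/-- The pairing. -/
noncomputable def pairing (Q : QuadraticForm F V) (W W' : Submodule F V) : W →ₗ[F] Dual F W' :=
  (polarBilin Q).domRestrict₁₂ W W'

theorem pairing_apply {W W' : Submodule F V} (w : W) (x : W') :
    pairing Q W W' w x = polar Q (w : V) (x : V) := rfl

theorem DP.pairing_injective {W W' : Submodule F V} (h : DP Q W W') :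
    Function.Injective (pairing Q W W') := by
  rw [← LinearMap.ker_eq_bot, LinearMap.ker_eq_bot']
  intro w hw
  apply Subtype.ext
  refine h.nd w w.2 (fun x hx => ?_)
  have := LinearMap.congr_fun hw ⟨x, hx⟩
  exact this

variable [FiniteDimensional F V]

theorem DP.finrank_eq {W W' : Submodule F V} (h : DP Q W W') : finrank F W = finrank F W' := by
  apply le_antisymm
  · have := LinearMap.finrank_le_finrank_of_injective h.pairing_injective
    rwa [Subspace.dual_finrank_eq] at this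
  · have := LinearMap.finrank_le_finrank_of_injective h.symm.pairing_injective
    rwa [Subspace.dual_finrank_eq] at this

/-- The pairing as an equivalence. -/
noncomputable def DP.equiv {W W' : Submodule F V} (h : DP Q W W') : W ≃ₗ[F] Dual F W' :=
  LinearEquiv.ofInjectiveOfFinrankEq (pairing Q W W') h.pairing_injective
    (by rw [Subspace.dual_finrank_eq, h.finrank_eq])

theorem DP.equiv_apply {W W' : Submodule F V} (h : DP Q W W') (w : W) (x : W') :
    h.equiv w x = polar Q (w : V) (x : V) := by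
  rw [DP.equiv]
  rfl

theorem DP.equiv_symm {W W' : Submodule F V} (h : DP Q W W') (f : Dual F W') (x : W') :
    polar Q (h.equiv.symm f : V) (x : V) = f x := by
  rw [← h.equiv_apply, LinearEquiv.apply_symm_apply]

theorem DP.exists_eq {W W' : Submodule F V} (h : DP Q W W') (f : Dual F W') :
    ∃ w ∈ W, ∀ x : W', polar Q w (x : V) = f x :=
  ⟨_, (h.equiv.symm f).2, h.equiv_symm f⟩

/-- Projection to `W` along `W'^⊥`. -/
noncomputable def DP.pr {W W' : Submodule F V} (h : DP Q W W') : V →ₗ[F] W :=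
  h.equiv.symm.toLinearMap ∘ₗ (LinearMap.domRestrict₂ (polarBilin Q) W')

theorem DP.polar_pr {W W' : Submodule F V} (h : DP Q W W') (v : V) {x : V} (hx : x ∈ W') :
    polar Q (h.pr v : V) x = polar Q v x := by
  have := h.equiv_symm (LinearMap.domRestrict₂ (polarBilin Q) W' v) ⟨x, hx⟩
  exact this

theorem DP.pr_of_mem {W W' : Submodule F V} (h : DP Q W W') {w : V} (hw : w ∈ W) :
    (h.pr w : V) = w := by
  have h1 : (h.pr w : V) - w = 0 := by
    refine h.nd _ (W.sub_mem (h.pr w).2 hw) (fun x hx => ?_)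
    rw [polar_sub_left, h.polar_pr w hx, sub_self]
  exact sub_eq_zero.1 h1

/-- The middle part. -/
noncomputable def DP.mid {W W' : Submodule F V} (h : DP Q W W') : V →ₗ[F] V :=
  LinearMap.id - W.subtype ∘ₗ h.pr - W'.subtype ∘ₗ h.symm.pr

theorem DP.mid_apply {W W' : Submodule F V} (h : DP Q W W') (v : V) :
    h.mid v = v - h.pr v - h.symm.pr v := rfl

theorem DP.mid_mem_perp {W W' : Submodule F V} (h : DP Q W W') (v : V) : h.mid v ∈ perp Q W := by
  intro w hw
  rw [h.mid_apply, polar_sub_right, polar_sub_right, h.ts.pz hw (h.pr v).2, polar_comm Q w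
    (h.symm.pr v : V), h.symm.polar_pr v hw, polar_comm Q v w]
  ring

theorem DP.mid_mem_perp' {W W' : Submodule F V} (h : DP Q W W') (v : V) : h.mid v ∈ perp Q W' := by
  intro w hw
  rw [h.mid_apply, polar_sub_right, polar_sub_right, h.ts'.pz hw (h.symm.pr v).2, polar_comm Q w
    (h.pr v : V), h.polar_pr v hw, polar_comm Q v w]
  ring

theorem DP.decomp {W W' : Submodule F V} (h : DP Q W W') (v : V) :
    v = h.mid v + h.pr v + h.symm.pr v := by
  rw [h.mid_apply]; abel

/-- The middle space. -/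
def mids (Q : QuadraticForm F V) (W W' : Submodule F V) : Submodule F V := perp Q W ⊓ perp Q W'

theorem DP.mid_mem {W W' : Submodule F V} (h : DP Q W W') (v : V) : h.mid v ∈ mids Q W W' :=
  ⟨h.mid_mem_perp v, h.mid_mem_perp' v⟩

theorem DP.pr_of_perp {W W' : Submodule F V} (h : DP Q W W') {v : V} (hv : v ∈ perp Q W') :
    (h.pr v : V) = 0 := by
  refine h.nd _ (h.pr v).2 (fun x hx => ?_)
  rw [h.polar_pr v hx, polar_comm]
  exact hv x hx

theorem DP.mid_of_mem {W W' : Submodule F V} (h : DP Q W W') {v : V} (hv : v ∈ mids Q W W') :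
    h.mid v = v := by
  rw [h.mid_apply, h.pr_of_perp hv.2, h.symm.pr_of_perp hv.1, sub_zero, sub_zero]

theorem DP.mid_of_left {W W' : Submodule F V} (h : DP Q W W') {v : V} (hv : v ∈ W) : h.mid v = 0 := by
  have h1 : v ∈ perp Q W := fun w hw => h.ts.pz hw hv
  rw [h.mid_apply, h.pr_of_mem hv, h.symm.pr_of_perp h1, sub_self, sub_zero]

theorem DP.mid_of_right {W W' : Submodule F V} (h : DP Q W W') {v : V} (hv : v ∈ W') : h.mid v = 0 := by
  have h1 : v ∈ perp Q W' := fun w hw => h.ts'.pz hw hv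
  rw [h.mid_apply, h.symm.pr_of_mem hv, h.pr_of_perp h1, sub_zero, sub_self]

/-- A vector orthogonal to `W` is a middle vector plus a vector of `W`. -/
theorem DP.decomp_perp {W W' : Submodule F V} (h : DP Q W W') {v : V} (hv : v ∈ perp Q W) :
    v = h.mid v + h.pr v := by
  have h1 := h.decomp v
  rw [h.symm.pr_of_perp hv, add_zero] at h1
  exact h1

omit [FiniteDimensional F V] in
/-- The middle space is anisotropic if `W` is maximal. -/
theorem DP.anis {W W' : Submodule F V} (h : DP Q W W') (hW : MaxTS Q W) {v : V}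
    (hv : v ∈ mids Q W W') (hs : Q v = 0) : v = 0 :=
  h.nd v (hW.max v hs hv.1) (fun x hx => by rw [polar_comm]; exact hv.2 x hx)

/-- Existence of a dual partner containing a given totally singular subspace. -/
theorem exists_partner (hQ : Nondeg Q) {W X : Submodule F V} (hW : TS Q W) (hX : TS Q X)
    (hd : ∀ x ∈ X, (∀ w ∈ W, polar Q w x = 0) → x = 0) :
    ∃ W' : Submodule F V, X ≤ W' ∧ DP Q W W' := by
  classical
  have hb : ∃ n, ∃ Y : Submodule F V, (X ≤ Y ∧ TS Q Y ∧ (∀ x ∈ Y, (∀ w ∈ W, polar Q w x = 0) → x = 0)) ∧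
      finrank F V - finrank F Y = n := ⟨_, X, ⟨le_rfl, hX, hd⟩, rfl⟩
  obtain ⟨Y, ⟨hXY, hY, hdY⟩, hn⟩ := Nat.find_spec hb
  refine ⟨Y, hXY, hW, hY, fun r hr hrp => ?_, hdY⟩
  by_contra hr0
  -- a vector orthogonal to `Y` but not to `r`
  have hrY : r ∉ Y := by
    intro h
    exact hr0 (hdY r h (fun w hw => hW.pz hw hr))
  obtain ⟨y, hyY, hyr⟩ : ∃ y ∈ perp Q Y, polar Q r y = 1 := by
    by_contra hcon
    push Not at hcon
    have hcon' : ∀ y ∈ perp Q Y, polar Q r y = 0 := by
      intro y hy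
      by_contra hne
      apply hcon ((polar Q r y)⁻¹ • y) ((perp Q Y).smul_mem _ hy)
      rw [polar_smul_right, smul_eq_mul, inv_mul_cancel₀ hne]
    -- `r` is in the double orthogonal of `Y`
    let B : LinearMap.BilinForm F V := polarBilin Q
    have hBn : B.Nondegenerate := by
      refine ⟨fun x hx => hQ x hx, fun x hx => hQ x (fun y => ?_)⟩
      rw [polar_comm]; exact hx y
    have hBr : B.IsRefl := fun x y h => by
      show polar Q y x = 0
      rw [polar_comm]; exact h
    have h1 : r ∈ B.orthogonal (B.orthogonal Y) := by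
      rw [LinearMap.BilinForm.mem_orthogonal_iff]
      intro y hy
      show polar Q y r = 0
      rw [polar_comm]
      exact hcon' y (fun w hw => (LinearMap.BilinForm.mem_orthogonal_iff.1 hy) w hw)
    rw [LinearMap.BilinForm.orthogonal_orthogonal hBn hBr] at h1
    exact hrY h1
  have hry : polar Q y r = 1 := by rw [polar_comm]; exact hyr
  have hrp' : ∀ x ∈ Y, polar Q x r = 0 := fun x hx => by rw [polar_comm]; exact hrp x hx
  set z := y - Q y • r with hz
  have hzs : Q z = 0 := by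
    have e : z = y + (-(Q y)) • r := by rw [hz]; module
    rw [e, Q_add, QuadraticMap.map_smul, hW r hr, polar_smul_right, hry]
    simp
  have hzY : ∀ x ∈ Y, polar Q x z = 0 := by
    intro x hx
    rw [hz, polar_sub_right, polar_smul_right, hyY x hx, hrp' x hx]
    simp
  have hrz : polar Q r z = 1 := by
    rw [hz, polar_sub_right, polar_smul_right, hyr, hW.pz hr hr]
    simp
  have hzY' : z ∉ Y := by
    intro h
    rw [hrp z h] at hrz
    exact zero_ne_one hrz
  have hlt : Y < Y ⊔ Submodule.span F {z} := by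
    refine lt_of_le_of_ne le_sup_left (fun h => hzY' ?_)
    rw [h]
    exact Submodule.mem_sup_right (Submodule.mem_span_singleton_self z)
  have h1 := Submodule.finrank_lt_finrank_of_lt hlt
  have h2 := Submodule.finrank_le (Y ⊔ Submodule.span F {z})
  refine Nat.find_min hb (m := finrank F V - finrank F ↥(Y ⊔ Submodule.span F {z})) (by omega)
    ⟨_, ⟨hXY.trans le_sup_left, hY.sup_span hzs hzY, ?_⟩, rfl⟩
  intro x hx hxp
  obtain ⟨a, ha, b, hb', rfl⟩ := Submodule.mem_sup.1 hx
  obtain ⟨c, rfl⟩ := Submodule.mem_span_singleton.1 hb'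
  have h3 := hxp r hr
  rw [polar_add_right, polar_smul_right, hrp a ha, hrz, zero_add, smul_eq_mul, mul_one] at h3
  rw [h3, zero_smul, add_zero] at hxp ⊢
  exact hdY a ha hxp

end Cfsg.Agent.H434.Corn
end

-- part: H434/CornTwist
section
/-!
# Corners of isometries II: every admissible corner is realised (helper434)

`W` a maximal totally singular subspace, `g` an isometry, `W = H + W₁` with `g H ≤ W`, `g W₁ ≤ W'`,
`(W, W')` a dual pair. An endomorphism `A` of `W` and `t : W → M` (`M` the middle space) with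
* `A h = g h`, `t h = 0` on `H`, `(A w, g w) = - Q (t w)`,
* for `v` in `M` there is `w₁` with `g v - v - t w₁ ∈ g W` and `(A w, g w₁) = (v, t w)`
come from a new partner `W''` of `W`: the corner of `g` is `A` and the middle part of `g` is `1`.
-/

set_option autoImplicit false

namespace Cfsg.Agent.H434.Corn

open Module QuadraticMap Cfsg.Agent.LieClassical.OrthCore Cfsg.Agent.LieClassical.OrthTrans

variable {F V : Type*} [Field F] [AddCommGroup V] [Module F V] {Q : QuadraticForm F V}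

/-- Corner data. -/
structure Datum (Q : QuadraticForm F V) (g : V ≃ₗ[F] V) (W M : Submodule F V)
    (A : W →ₗ[F] W) (t : W →ₗ[F] V) : Prop where
  tM : ∀ w, t w ∈ M
  fixA : ∀ w : W, g w ∈ W → (A w : V) = g w
  fixt : ∀ w : W, g w ∈ W → t w = 0
  quad : ∀ w : W, polar Q (A w : V) (g w) = - Q (t w)
  mid : ∀ v ∈ M, ∃ w₁ : W, g v - v - t w₁ ∈ W.map g.toLinearMap ∧
    ∀ w : W, polar Q (A w : V) (g w₁) = polar Q v (t w)

/-- The first properties of a middle-one partner. -/
structure Partner (Q : QuadraticForm F V) (g : V ≃ₗ[F] V) (W W' : Submodule F V)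
    (A : W →ₗ[F] W) : Prop where
  dp : DP Q W W'
  corner : ∀ w : W, ∀ x ∈ W', polar Q (g w) x = polar Q (A w : V) x
  mid : ∀ v ∈ mids Q W W', ∃ w ∈ W, g (v + w) - v ∈ W'

/-- The situation. -/
structure Adapted (Q : QuadraticForm F V) (g : V ≃ₗ[F] V) (W W' H W₁ : Submodule F V) : Prop where
  dp : DP Q W W'
  mW : MaxTS Q W
  gO : g ∈ O Q
  HW : H ≤ W
  W₁W : W₁ ≤ W
  sup : H ⊔ W₁ = W
  gH : ∀ h ∈ H, g h ∈ W
  gW₁ : ∀ w ∈ W₁, g w ∈ W'

theorem Adapted.split {g : V ≃ₗ[F] V} {W W' H W₁ : Submodule F V} (h : Adapted Q g W W' H W₁) {w : V}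
    (hw : w ∈ W) : ∃ a ∈ H, ∃ b ∈ W₁, w = a + b := by
  rw [← h.sup] at hw
  obtain ⟨a, ha, b, hb, rfl⟩ := Submodule.mem_sup.1 hw
  exact ⟨a, ha, b, hb, rfl⟩

theorem Adapted.disj {g : V ≃ₗ[F] V} {W W' H W₁ : Submodule F V} (h : Adapted Q g W W' H W₁) {w : V}
    (hw : w ∈ W₁) (hg : g w ∈ W) : w = 0 := by
  have h1 := h.dp.nd (g w) hg (fun x hx => h.dp.ts'.pz (h.gW₁ w hw) hx)
  exact g.map_eq_zero_iff.1 h1

theorem Adapted.exists_p {g : V ≃ₗ[F] V} {W W' H W₁ : Submodule F V} (h : Adapted Q g W W' H W₁) :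
    ∃ p : W' →ₗ[F] W, (∀ x, (p x : V) ∈ W₁) ∧ ∀ (w : W) (hw : (w : V) ∈ W₁), p ⟨g w, h.gW₁ w hw⟩ = w := by
  let f : W₁ →ₗ[F] W' := LinearMap.codRestrict W' (g.toLinearMap ∘ₗ W₁.subtype) (fun w => h.gW₁ w w.2)
  have hf : Function.Injective f := by
    intro a b hab
    apply Subtype.ext
    apply g.injective
    exact congrArg Subtype.val hab
  obtain ⟨l, hl⟩ := LinearMap.exists_leftInverse_of_injective f (LinearMap.ker_eq_bot.2 hf)
  refine ⟨Submodule.inclusion h.W₁W ∘ₗ l, fun x => (l x).2, fun w hw => ?_⟩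
  have h1 := LinearMap.congr_fun hl ⟨w, hw⟩
  apply Subtype.ext
  show ((l (f ⟨w, hw⟩) : W₁) : V) = w
  rw [show l (f ⟨w, hw⟩) = (⟨w, hw⟩ : W₁) from h1]

variable [FiniteDimensional F V]

/-- **Every datum is realised by a partner of `W`.** -/
theorem exists_partner_of_datum {g : V ≃ₗ[F] V} {W W' H W₁ : Submodule F V}
    (h : Adapted Q g W W' H W₁) {A : W →ₗ[F] W} {t : W →ₗ[F] V}
    (D : Datum Q g W (mids Q W W') A t) : ∃ W'' : Submodule F V, Partner Q g W W'' A := by
  classical
  obtain ⟨p, hp1, hp2⟩ := h.exists_p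
  have hts := h.dp.ts
  have hts' := h.dp.ts'
  -- the form `σ'(y, x)`
  let σ : W' →ₗ[F] W' →ₗ[F] F := LinearMap.mk₂ F
    (fun x y => polar Q (A (p y) : V) (x : V) - polar Q (A (p x) : V) (y : V) +
      polar Q (A (p x) : V) (g (p y : V)))
    (by intro a b c; simp only [map_add, Submodule.coe_add, polar_add_left, polar_add_right]; ring)
    (by intro a b c; simp only [map_smul, Submodule.coe_smul, polar_smul_left, polar_smul_right,
          smul_eq_mul]; ring)
    (by intro a b c; simp only [map_add, Submodule.coe_add, polar_add_left, polar_add_right]; ring)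
    (by intro a b c; simp only [map_smul, Submodule.coe_smul, polar_smul_left, polar_smul_right,
          smul_eq_mul]; ring)
  have hσ : ∀ x y : W', σ x y = polar Q (A (p y) : V) (x : V) - polar Q (A (p x) : V) (y : V) +
      polar Q (A (p x) : V) (g (p y : V)) := fun x y => rfl
  let S : W' →ₗ[F] W := h.dp.equiv.symm.toLinearMap ∘ₗ σ
  have hS : ∀ x y : W', polar Q (y : V) (S x : V) = σ x y := by
    intro x y
    rw [polar_comm]
    exact h.dp.equiv_symm (σ x) y
  let j : W' →ₗ[F] V := W'.subtype + t ∘ₗ p + W.subtype ∘ₗ S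
  have hj : ∀ x : W', j x = (x : V) + t (p x) + (S x : V) := fun x => rfl
  have htperp : ∀ w : W, ∀ a ∈ W, polar Q a (t w) = 0 := fun w a ha => (D.tM w).1 a ha
  have htperp' : ∀ w : W, ∀ a ∈ W', polar Q a (t w) = 0 := fun w a ha => (D.tM w).2 a ha
  -- pairings
  have hjW : ∀ a ∈ W, ∀ x : W', polar Q a (j x) = polar Q a (x : V) := by
    intro a ha x
    rw [hj, polar_add_right, polar_add_right, htperp _ _ ha, hts.pz ha (S x).2]
    ring
  have hjW' : ∀ a ∈ W', ∀ x : W', polar Q a (j x) = polar Q a (S x : V) := by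
    intro a ha x
    rw [hj, polar_add_right, polar_add_right, htperp' _ _ ha, hts'.pz ha x.2]
    ring
  have hQj : ∀ x : W', Q (j x) = 0 := by
    intro x
    have h1 : polar Q ((x : V) + t (p x)) (S x : V) = polar Q (x : V) (S x : V) := by
      rw [polar_add_left, polar_comm Q (t (p x)), htperp _ _ (S x).2, add_zero]
    rw [hj, Q_add, h1, Q_add, hts' _ x.2, hts _ (S x).2, htperp' _ _ x.2, hS, hσ, D.quad (p x)]
    ring
  refine ⟨LinearMap.range j, ⟨hts, ?_, ?_, ?_⟩, ?_, ?_⟩
  · rintro _ ⟨x, rfl⟩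
    exact hQj x
  · intro a ha hp
    refine h.dp.nd a ha (fun x hx => ?_)
    have := hp (j ⟨x, hx⟩) ⟨_, rfl⟩
    rwa [hjW a ha] at this
  · rintro _ ⟨x, rfl⟩ hp
    have hx : x = 0 := by
      apply Subtype.ext
      refine h.dp.nd' x x.2 (fun w hw => ?_)
      have := hp w hw
      rwa [hjW w hw] at this
    rw [hx, map_zero]
  · -- the corner
    rintro w _ ⟨x, rfl⟩
    obtain ⟨a, ha, b, hb, hab⟩ := h.split w.2
    have hw : w = ⟨a, h.HW ha⟩ + ⟨b, h.W₁W hb⟩ := Subtype.ext hab
    have ha' : polar Q (g a) (j x) = polar Q (A ⟨a, h.HW ha⟩ : V) (j x) := by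
      rw [D.fixA ⟨a, h.HW ha⟩ (h.gH a ha)]
    have hb' : polar Q (g b) (j x) = polar Q (A ⟨b, h.W₁W hb⟩ : V) (j x) := by
      rw [hjW' _ (h.gW₁ b hb), hjW _ (A ⟨b, h.W₁W hb⟩).2]
      have h1 := hS x ⟨g b, h.gW₁ b hb⟩
      rw [hσ] at h1
      have h2 : p ⟨g b, h.gW₁ b hb⟩ = ⟨b, h.W₁W hb⟩ := hp2 ⟨b, h.W₁W hb⟩ hb
      rw [h2] at h1
      simp only at h1
      rw [h1]
      ring
    rw [hw, map_add, Submodule.coe_add, Submodule.coe_add, map_add, polar_add_left, polar_add_left, ha', hb']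
  · -- the middle part
    intro v hv
    have hvW : v ∈ perp Q W := hv.1
    have hvj : ∀ x : W', polar Q (j x) v = 0 := fun x => hv.2 _ ⟨x, rfl⟩
    set m := h.dp.mid v with hm
    set n := (h.dp.pr v : V) with hn
    have hnW : n ∈ W := (h.dp.pr v).2
    have hvmn : v = m + n := h.dp.decomp_perp hvW
    have hmM : m ∈ mids Q W W' := h.dp.mid_mem v
    obtain ⟨w₀, hw₀1, hw₀2⟩ := D.mid m hmM
    -- replace `w₀` by its component in `W₁`
    obtain ⟨a, ha, b, hb, hab⟩ := h.split w₀.2
    have hw : w₀ = ⟨a, h.HW ha⟩ + ⟨b, h.W₁W hb⟩ := Subtype.ext hab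
    set w₁ : W := ⟨b, h.W₁W hb⟩ with hw₁
    have ht1 : t w₀ = t w₁ := by
      rw [hw, map_add, D.fixt ⟨a, h.HW ha⟩ (h.gH a ha), zero_add]
    rw [ht1] at hw₀1
    have hw₁2 : ∀ w : W, polar Q (A w : V) (g w₁) = polar Q m (t w) := by
      intro w
      rw [← hw₀2 w, hw, Submodule.coe_add, map_add, polar_add_right]
      rw [hts.pz (A w).2 (h.gH a ha), zero_add]
    obtain ⟨w', hw'W, hw'⟩ := hw₀1
    have hgm : g m = m + t w₁ + g w' := by
      have : g w' = g m - m - t w₁ := hw'
      rw [this]; abel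
    set x : W' := ⟨g w₁, h.gW₁ _ hb⟩ with hx
    have hpx : p x = w₁ := hp2 w₁ hb
    -- `n + S x` is in `g W`
    have hkey : n + S x ∈ W.map g.toLinearMap := by
      refine (h.mW.map h.gO).max _ (hts _ (W.add_mem hnW (S x).2)) ?_
      rintro _ ⟨w, hwW, rfl⟩
      show polar Q (g w) (n + S x) = 0
      obtain ⟨a', ha', b', hb', hab'⟩ := h.split hwW
      rw [hab', map_add, polar_add_left, hts.pz (h.gH a' ha') (W.add_mem hnW (S x).2), zero_add]
      set y : W' := ⟨g b', h.gW₁ _ hb'⟩ with hy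
      have hpy : p y = ⟨b', h.W₁W hb'⟩ := hp2 ⟨b', h.W₁W hb'⟩ hb'
      have h1 : polar Q (g b') n = - polar Q m (t ⟨b', h.W₁W hb'⟩) := by
        have h2 := hvj y
        rw [polar_comm, hj, polar_add_right, polar_add_right, hpy] at h2
        rw [polar_comm Q v (S y : V), hvW _ (S y).2, add_zero] at h2
        have h3 : polar Q v (t ⟨b', h.W₁W hb'⟩) = polar Q m (t ⟨b', h.W₁W hb'⟩) := by
          rw [hvmn, polar_add_left, htperp _ _ hnW, add_zero]
        have h4 : polar Q v (y : V) = polar Q (g b') n := by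
          rw [hvmn, polar_add_left, polar_comm Q m, hmM.2 _ y.2, zero_add, polar_comm]
        rw [h3, h4] at h2
        linear_combination h2
      have h5 : polar Q (g b') (S x : V) = polar Q m (t ⟨b', h.W₁W hb'⟩) := by
        have h6 := hS x y
        rw [hσ, hpx, hpy] at h6
        have h7 := hw₁2 ⟨b', h.W₁W hb'⟩
        have h8 : ((y : W') : V) = g b' := rfl
        have h9 : ((x : W') : V) = g w₁ := rfl
        simp only [h8, h9] at h6
        rw [h6, h7]
        ring
      rw [polar_add_right, h1, h5]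
      ring
    obtain ⟨u, huW, hu⟩ := hkey
    have hu' : g u = n + S x := hu
    refine ⟨u + w₁ - w' - n, W.sub_mem (W.sub_mem (W.add_mem huW w₁.2) hw'W) hnW, x, ?_⟩
    rw [hj, hpx]
    have h9 : ((x : W') : V) = g w₁ := rfl
    rw [h9, show v + (u + (w₁ : V) - w' - n) = m + u + w₁ - w' by rw [hvmn]; abel]
    rw [map_sub, map_add, map_add, hgm, hu']
    rw [hvmn]
    abel

end Cfsg.Agent.H434.Corn
end

-- part: H434/CornDatum
section
/-!
# Corners of isometries III: existence of corner data (helper434)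

If `dim W₁ = rank (g₀ - 1) + 2 l`, where `g₀` is the isometry of the middle space induced by `g`, then there are
corner data with `A` injective.
-/

set_option autoImplicit false

namespace Cfsg.Agent.H434.Corn

open Module QuadraticMap Cfsg.Agent.LieClassical.OrthCore Cfsg.Agent.LieClassical.OrthTrans

variable {F V : Type*} [Field F] [AddCommGroup V] [Module F V] {Q : QuadraticForm F V}

/-- Existence of an adapted situation. -/
theorem exists_adapted [FiniteDimensional F V] (hQ : Nondeg Q) {g : V ≃ₗ[F] V} (hg : g ∈ O Q) {W : Submodule F V}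
    (hW : MaxTS Q W) : ∃ W' H W₁, Adapted Q g W W' H W₁ ∧ H ⊓ W₁ = ⊥ ∧
      ∀ w ∈ W, g w ∈ W → w ∈ H := by
  classical
  let H : Submodule F V := W ⊓ W.comap g.toLinearMap
  have hH : H ≤ W := inf_le_left
  obtain ⟨C, hC⟩ := Submodule.exists_isCompl (H.comap W.subtype)
  let W₁ : Submodule F V := C.map W.subtype
  have hW₁ : W₁ ≤ W := by
    rintro _ ⟨x, _, rfl⟩
    exact x.2
  have hsup : H ⊔ W₁ = W := by
    apply le_antisymm (sup_le hH hW₁)
    intro w hw
    have h1 : (⟨w, hw⟩ : W) ∈ H.comap W.subtype ⊔ C := by rw [hC.sup_eq_top]; trivial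
    obtain ⟨a, ha, b, hb, hab⟩ := Submodule.mem_sup.1 h1
    have h2 : w = (a : V) + b := (congrArg Subtype.val hab).symm
    rw [h2]
    exact Submodule.add_mem_sup ha ⟨b, hb, rfl⟩
  have hinf : H ⊓ W₁ = ⊥ := by
    rw [eq_bot_iff]
    rintro w ⟨h1, ⟨b, hb, rfl⟩⟩
    have h2 : b ∈ H.comap W.subtype ⊓ C := ⟨h1, hb⟩
    rw [hC.inf_eq_bot] at h2
    rw [Submodule.mem_bot] at h2 ⊢
    rw [h2]; rfl
  have hX : TS Q (W₁.map g.toLinearMap) := by
    rintro _ ⟨w, hw, rfl⟩
    show Q (g w) = 0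
    rw [mem_O.1 hg]
    exact hW.ts w (hW₁ hw)
  have hXd : ∀ x ∈ W₁.map g.toLinearMap, (∀ w ∈ W, polar Q w x = 0) → x = 0 := by
    rintro _ ⟨w, hw, rfl⟩ hp
    have h1 : g w ∈ W := hW.max _ (hX _ ⟨w, hw, rfl⟩) hp
    have h2 : w ∈ H ⊓ W₁ := ⟨⟨hW₁ hw, h1⟩, hw⟩
    rw [hinf, Submodule.mem_bot] at h2
    rw [h2, map_zero]
  obtain ⟨W', hXW', hdp⟩ := exists_partner hQ hW.ts hX hXd
  exact ⟨W', H, W₁, ⟨hdp, hW, hg, hH, hW₁, hsup, fun h hh => hh.2, fun w hw => hXW' ⟨w, hw, rfl⟩⟩, hinf,
    fun w h1 h2 => ⟨h1, h2⟩⟩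

namespace Adapted

variable {g : V ≃ₗ[F] V} {W W' H W₁ : Submodule F V}

theorem mem_H (h : Adapted Q g W W' H W₁) {w : V} (hw : w ∈ W) (hg : g w ∈ W) : w ∈ H := by
  obtain ⟨a, ha, b, hb, rfl⟩ := h.split hw
  have h1 : g b ∈ W := by
    have h2 := W.sub_mem hg (h.gH a ha)
    rwa [map_add, add_sub_cancel_left] at h2
  rw [h.disj hb h1, add_zero]
  exact ha

/-- The middle space is orthogonal to `g W`. -/
theorem mid_perp (h : Adapted Q g W W' H W₁) {m : V} (hm : m ∈ mids Q W W') {w : V} (hw : w ∈ W) :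
    polar Q (g w) m = 0 := by
  obtain ⟨a, ha, b, hb, rfl⟩ := h.split hw
  rw [map_add, polar_add_left, hm.1 _ (h.gH a ha), hm.2 _ (h.gW₁ b hb), add_zero]

variable [FiniteDimensional F V]

theorem sub_mid_mem (h : Adapted Q g W W' H W₁) {m : V} (hm : m ∈ mids Q W W') :
    g m - h.dp.mid (g m) ∈ W.map g.toLinearMap := by
  have e : g m - h.dp.mid (g m) = h.dp.pr (g m) + h.dp.symm.pr (g m) := by
    rw [h.dp.mid_apply]; abel
  rw [e]
  have hmax := h.mW.map h.gO
  refine Submodule.add_mem _ (hmax.max _ (h.dp.ts _ (h.dp.pr _).2) ?_)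
    (hmax.max _ (h.dp.ts' _ (h.dp.symm.pr _).2) ?_)
  · rintro _ ⟨w, hw, rfl⟩
    show polar Q (g w) _ = 0
    obtain ⟨a, ha, b, hb, rfl⟩ := h.split hw
    rw [map_add, polar_add_left, h.dp.ts.pz (h.gH a ha) (h.dp.pr _).2, zero_add, polar_comm,
      h.dp.polar_pr _ (h.gW₁ b hb), polar_map h.gO, polar_comm]
    exact hm.1 _ (h.W₁W hb)
  · rintro _ ⟨w, hw, rfl⟩
    show polar Q (g w) _ = 0
    obtain ⟨a, ha, b, hb, rfl⟩ := h.split hw
    rw [map_add, polar_add_left, h.dp.ts'.pz (h.gW₁ b hb) (h.dp.symm.pr _).2, add_zero, polar_comm,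
      h.dp.symm.polar_pr _ (h.gH a ha), polar_map h.gO, polar_comm]
    exact hm.1 _ (h.HW ha)

theorem Q_mid (h : Adapted Q g W W' H W₁) {m : V} (hm : m ∈ mids Q W W') :
    Q (h.dp.mid (g m)) = Q m := by
  obtain ⟨w, hw, hwe⟩ := h.sub_mid_mem hm
  have hwe' : g w = g m - h.dp.mid (g m) := hwe
  have e : g m = g w + h.dp.mid (g m) := by rw [hwe']; abel
  have h1 : Q (g m) = Q m := mem_O.1 h.gO m
  rw [← h1]
  nth_rewrite 2 [e]
  rw [Q_add, mem_O.1 h.gO, h.dp.ts w hw, h.mid_perp (h.dp.mid_mem _) hw]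
  ring

theorem polar_mid (h : Adapted Q g W W' H W₁) {m m' : V} (hm : m ∈ mids Q W W')
    (hm' : m' ∈ mids Q W W') : polar Q (h.dp.mid (g m)) (h.dp.mid (g m')) = polar Q m m' := by
  have h1 := h.Q_mid ((mids Q W W').add_mem hm hm')
  rw [map_add, map_add, Q_add, Q_add, h.Q_mid hm, h.Q_mid hm'] at h1
  linear_combination h1

/-- `g₀ - 1` on the middle space. -/
noncomputable def dlt (h : Adapted Q g W W' H W₁) : mids Q W W' →ₗ[F] V :=
  (h.dp.mid ∘ₗ g.toLinearMap - LinearMap.id) ∘ₗ (mids Q W W').subtype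

theorem dlt_apply (h : Adapted Q g W W' H W₁) (m : mids Q W W') :
    h.dlt m = h.dp.mid (g m) - m := rfl

theorem dlt_mem (h : Adapted Q g W W' H W₁) (m : mids Q W W') : h.dlt m ∈ mids Q W W' :=
  Submodule.sub_mem _ (h.dp.mid_mem _) m.2

theorem polar_dlt (h : Adapted Q g W W' H W₁) (m : mids Q W W') :
    polar Q (m : V) (h.dlt m) = - Q (h.dlt m) := by
  have h1 : h.dp.mid (g m) = m + h.dlt m := by rw [h.dlt_apply]; abel
  have h2 := h.Q_mid m.2
  rw [h1, Q_add] at h2
  linear_combination h2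

theorem polar_ker (h : Adapted Q g W W' H W₁) {k : mids Q W W'} (hk : h.dlt k = 0)
    (m : mids Q W W') : polar Q (k : V) (h.dlt m) = 0 := by
  rw [h.dlt_apply, sub_eq_zero] at hk
  rw [h.dlt_apply, polar_sub_right]
  nth_rewrite 1 [← hk]
  rw [h.polar_mid k.2 m.2, sub_self]

theorem exists_datum (h : Adapted Q g W W' H W₁) {l : ℕ}
    (hl : finrank F W₁ = finrank F (LinearMap.range h.dlt) + (l + l)) :
    ∃ (A : W →ₗ[F] W) (t : W →ₗ[F] V), Datum Q g W (mids Q W W') A t ∧ Function.Injective A := by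
  classical
  obtain ⟨p, hp1, hp2⟩ := h.exists_p
  let R0 := LinearMap.range h.dlt
  -- projection of `W` to `W₁`
  let f : W →ₗ[F] W' := h.dp.symm.pr ∘ₗ g.toLinearMap ∘ₗ W.subtype
  let π : W →ₗ[F] W₁ := LinearMap.codRestrict W₁ (W.subtype ∘ₗ p ∘ₗ f) (fun w => hp1 _)
  have hf1 : ∀ w : W, (w : V) ∈ H → f w = 0 := by
    intro w hw
    apply Subtype.ext
    show (h.dp.symm.pr (g w) : V) = 0
    exact h.dp.symm.pr_of_perp (fun a ha => h.dp.ts.pz ha (h.gH _ hw))
  have hπ1 : ∀ w : W, (w : V) ∈ H → π w = 0 := by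
    intro w hw
    apply Subtype.ext
    show ((p (f w) : W) : V) = 0
    rw [hf1 w hw, map_zero]; rfl
  have hπ2 : ∀ (w : V) (hw : w ∈ W₁), π ⟨w, h.W₁W hw⟩ = ⟨w, hw⟩ := by
    intro w hw
    apply Subtype.ext
    show ((p (f ⟨w, h.W₁W hw⟩) : W) : V) = w
    have h1 : f ⟨w, h.W₁W hw⟩ = ⟨g w, h.gW₁ w hw⟩ := Subtype.ext (h.dp.symm.pr_of_mem (h.gW₁ w hw))
    rw [h1, hp2 ⟨w, h.W₁W hw⟩ hw]
  have hπH : ∀ w : W, (w : V) - (π w : V) ∈ H := by
    intro w
    obtain ⟨a, ha, b, hb, hab⟩ := h.split w.2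
    have hw : w = ⟨a, h.HW ha⟩ + ⟨b, h.W₁W hb⟩ := Subtype.ext hab
    have h1 : (π w : V) = b := by
      rw [hw, map_add, hπ1 _ ha, hπ2 b hb, zero_add]
    rw [h1, hab, add_sub_cancel_right]
    exact ha
  -- coordinates on `W₁`
  have hdim : finrank F W₁ = finrank F (R0 × (Fin l → F) × (Fin l → F)) := by
    rw [hl, finrank_prod, finrank_prod, finrank_fin_fun]
  let θ : W₁ ≃ₗ[F] (R0 × (Fin l → F) × (Fin l → F)) := LinearEquiv.ofFinrankEq _ _ hdim
  let Θ : W →ₗ[F] (R0 × (Fin l → F) × (Fin l → F)) := θ.toLinearMap ∘ₗ π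
  have hΘH : ∀ w : W, (w : V) ∈ H → Θ w = 0 := by
    intro w hw
    show θ (π w) = 0
    rw [hπ1 w hw, map_zero]
  have hΘsurj : ∀ z, ∃ w : W, Θ w = z := by
    intro z
    refine ⟨⟨θ.symm z, h.W₁W (θ.symm z).2⟩, ?_⟩
    show θ (π _) = z
    rw [hπ2 _ (θ.symm z).2]
    exact θ.apply_symm_apply z
  have hΘ0 : ∀ w : W, Θ w = 0 → (w : V) ∈ H := by
    intro w hw
    have h1 : π w = 0 := by
      have h2 : θ (π w) = 0 := hw
      exact (LinearEquiv.map_eq_zero_iff θ).1 h2
    have h2 := hπH w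
    rw [h1] at h2
    simpa using h2
  -- a section of `dlt`
  obtain ⟨u, hu⟩ := LinearMap.exists_rightInverse_of_surjective h.dlt.rangeRestrict
    (LinearMap.range_rangeRestrict _)
  have hu' : ∀ a : R0, h.dlt (u a) = a := by
    intro a
    have h1 := LinearMap.congr_fun hu a
    exact congrArg Subtype.val h1
  have hu2 : ∀ (v : mids Q W W') (a : R0), polar Q (u ⟨h.dlt v, ⟨v, rfl⟩⟩ : V) (a : V) =
      polar Q (v : V) (a : V) := by
    intro v a
    obtain ⟨b, hb⟩ := a.2
    have h1 : h.dlt (u ⟨h.dlt v, ⟨v, rfl⟩⟩ - v) = 0 := by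
      rw [map_sub, hu']; exact sub_self _
    have h2 := h.polar_ker h1 b
    rw [hb] at h2
    rw [Submodule.coe_sub, polar_sub_left] at h2
    linear_combination h2
  have hua : ∀ a : R0, polar Q (u a : V) (a : V) = - Q (a : V) := by
    intro a
    have h1 := h.polar_dlt (u a)
    rwa [hu'] at h1
  -- the form
  let σ : W →ₗ[F] W →ₗ[F] F := LinearMap.mk₂ F
    (fun w w' => polar Q (u (Θ w').1 : V) ((Θ w).1 : V) + ((Θ w).2.1 ⬝ᵥ (Θ w').2.2 -
      (Θ w).2.2 ⬝ᵥ (Θ w').2.1))
    (by
      intro a b c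
      simp only [map_add, Submodule.coe_add, polar_add_right, Prod.fst_add, Prod.snd_add,
        add_dotProduct]
      ring)
    (by
      intro a b c
      simp only [map_smul, Submodule.coe_smul, polar_smul_right, Prod.smul_fst,
        Prod.smul_snd, smul_eq_mul, smul_dotProduct]
      ring)
    (by
      intro a b c
      simp only [map_add, Submodule.coe_add, polar_add_left, Prod.fst_add, Prod.snd_add,
        dotProduct_add]
      ring)
    (by
      intro a b c
      simp only [map_smul, Submodule.coe_smul, polar_smul_left, Prod.smul_fst,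
        Prod.smul_snd, smul_eq_mul, dotProduct_smul]
      ring)
  have hσ : ∀ w w' : W, σ w w' = polar Q (u (Θ w').1 : V) ((Θ w).1 : V) +
      ((Θ w).2.1 ⬝ᵥ (Θ w').2.2 - (Θ w).2.2 ⬝ᵥ (Θ w').2.1) := fun w w' => rfl
  have hσH : ∀ w w' : W, (w : V) ∈ H → σ w w' = 0 := by
    intro w w' hw
    rw [hσ, hΘH w hw]
    simp [polar_zero_right]
  have hσH' : ∀ w w' : W, (w' : V) ∈ H → σ w w' = 0 := by
    intro w w' hw
    rw [hσ, hΘH w' hw]
    simp [polar_zero_left]
  -- the endomorphism
  let A₁ : W →ₗ[F] W := LinearMap.codRestrict W (g.toLinearMap ∘ₗ (W.subtype - W₁.subtype ∘ₗ π))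
    (fun w => h.gH _ (hπH w))
  let A₂ : W →ₗ[F] W := h.dp.equiv.symm.toLinearMap ∘ₗ ((LinearMap.lcomp F F p).comp σ)
  have hA₁ : ∀ w : W, (A₁ w : V) = g ((w : V) - π w) := fun w => rfl
  have hA₂ : ∀ (w : W) (x : W'), polar Q (A₂ w : V) (x : V) = σ w (p x) := by
    intro w x
    exact h.dp.equiv_symm _ x
  let A : W →ₗ[F] W := A₁ + A₂
  have hA : ∀ w : W, (A w : V) = g ((w : V) - π w) + A₂ w := fun w => rfl
  let t : W →ₗ[F] V := R0.subtype ∘ₗ LinearMap.fst F R0 _ ∘ₗ Θ
  have ht : ∀ w : W, t w = ((Θ w).1 : V) := fun w => rfl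
  -- the pairing
  have hpair : ∀ w w' : W, polar Q (A w : V) (g w') = σ w w' := by
    intro w w'
    obtain ⟨a, ha, b, hb, hab⟩ := h.split w'.2
    have hw : w' = ⟨a, h.HW ha⟩ + ⟨b, h.W₁W hb⟩ := Subtype.ext hab
    rw [hw, map_add, hσH' _ _ ha, zero_add, Submodule.coe_add, map_add, polar_add_right,
      h.dp.ts.pz (A w).2 (h.gH a ha), zero_add, hA, polar_add_left, polar_map h.gO,
      h.dp.ts.pz (h.HW (hπH w)) (h.W₁W hb), zero_add]
    have h1 := hA₂ w ⟨g b, h.gW₁ b hb⟩
    rw [hp2 ⟨b, h.W₁W hb⟩ hb] at h1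
    exact h1
  have hfix : ∀ w : W, (w : V) ∈ H → (A w : V) = g w := by
    intro w hw
    have h1 : A₂ w = 0 := by
      have h2 : σ w = 0 := by
        ext w'
        rw [hσH w w' hw]; rfl
      show h.dp.equiv.symm ((σ w).comp p) = 0
      rw [h2, LinearMap.zero_comp, map_zero]
    rw [hA, h1, hπ1 w hw]
    simp
  refine ⟨A, t, ⟨?_, ?_, ?_, ?_, ?_⟩, ?_⟩
  · intro w
    rw [ht]
    obtain ⟨b, hb⟩ := (Θ w).1.2
    rw [← hb]
    exact h.dlt_mem b
  · intro w hw
    exact hfix w (h.mem_H w.2 hw)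
  · intro w hw
    rw [ht, hΘH w (h.mem_H w.2 hw)]
    rfl
  · intro w
    rw [hpair, hσ, ht, hua, dotProduct_comm (Θ w).2.1]
    ring
  · intro v hv
    obtain ⟨w₁, hw₁⟩ := hΘsurj (⟨h.dlt ⟨v, hv⟩, ⟨_, rfl⟩⟩, 0, 0)
    refine ⟨w₁, ?_, fun w => ?_⟩
    · rw [ht, hw₁]
      show g v - v - (h.dp.mid (g v) - v) ∈ _
      have e : g v - v - (h.dp.mid (g v) - v) = g v - h.dp.mid (g v) := by abel
      rw [e]
      exact h.sub_mid_mem hv
    · rw [hpair, hσ, hw₁, ht]
      simp only [dotProduct_zero, sub_zero, add_zero]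
      exact hu2 ⟨v, hv⟩ (Θ w).1
  · -- injectivity
    rw [← LinearMap.ker_eq_bot, LinearMap.ker_eq_bot']
    intro w hw
    have h0 : ∀ w' : W, σ w w' = 0 := by
      intro w'
      rw [← hpair, hw]
      exact polar_zero_left _ _
    have h1 : (Θ w).1 = 0 := by
      obtain ⟨w', hw'⟩ := hΘsurj ((Θ w).1, 0, 0)
      have h2 := h0 w'
      rw [hσ, hw'] at h2
      simp only [dotProduct_zero, sub_zero, add_zero] at h2
      rw [hua, neg_eq_zero] at h2
      apply Subtype.ext
      obtain ⟨b, hb⟩ := (Θ w).1.2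
      refine h.dp.anis h.mW ?_ h2
      rw [← hb]
      exact h.dlt_mem b
    have h2 : (Θ w).2.1 = 0 := by
      rw [← dotProduct_eq_zero_iff]
      intro y
      obtain ⟨w', hw'⟩ := hΘsurj (0, 0, y)
      have h2 := h0 w'
      rw [hσ, hw'] at h2
      simpa [polar_zero_left] using h2
    have h3 : (Θ w).2.2 = 0 := by
      rw [← dotProduct_eq_zero_iff]
      intro y
      obtain ⟨w', hw'⟩ := hΘsurj (0, y, 0)
      have h2 := h0 w'
      rw [hσ, hw'] at h2
      simpa [polar_zero_left] using h2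
    have h4 : Θ w = 0 := Prod.ext h1 (Prod.ext h2 h3)
    have h5 := hfix w (hΘ0 w h4)
    rw [hw] at h5
    apply Subtype.ext
    exact (g.map_eq_zero_iff.1 h5.symm)

end Adapted

end Cfsg.Agent.H434.Corn
end

-- part: H434/CornScale
section
/-!
# Corners of isometries IV: changing the corner (helper434)

* `Datum.conj`, `exists_scale`: the determinant of the corner can be multiplied by any square;
* `Datum.add`: addition of endomorphisms vanishing on `H` with values in `g H`;
* `rank_adjust`: the corner can be made `1`, or non-scalar with `rank (A - 1) ≥ 2`.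
-/

set_option autoImplicit false

namespace Cfsg.Agent.H434.Corn

open Module QuadraticMap Cfsg.Agent.LieClassical.OrthCore Cfsg.Agent.LieClassical.OrthTrans

variable {F V : Type*} [Field F] [AddCommGroup V] [Module F V] {Q : QuadraticForm F V}

theorem Datum.conj {g : V ≃ₗ[F] V} {W M : Submodule F V} {A : W →ₗ[F] W} {t : W →ₗ[F] V}
    (D : Datum Q g W M A t) {D₁ D₂ : W →ₗ[F] W} (hs : Function.Surjective D₁)
    (h1 : ∀ w : W, g w ∈ W → D₁ w = w) (h2 : ∀ (w : W) (hw : g w ∈ W), D₂ ⟨g w, hw⟩ = ⟨g w, hw⟩)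
    (h3 : ∀ w w' : W, polar Q (D₂ w : V) (g w') = polar Q (w : V) (g (D₁ w' : V))) :
    Datum Q g W M (D₂ ∘ₗ A ∘ₗ D₁) (t ∘ₗ D₁) where
  tM w := D.tM _
  fixA w hw := by
    show (D₂ (A (D₁ w)) : V) = g w
    rw [h1 w hw]
    have h4 : A w = ⟨g w, hw⟩ := Subtype.ext (D.fixA w hw)
    rw [h4, h2 w hw]
  fixt w hw := by
    show t (D₁ w) = 0
    rw [h1 w hw]
    exact D.fixt w hw
  quad w := by
    show polar Q (D₂ (A (D₁ w)) : V) (g w) = - Q (t (D₁ w))
    rw [h3, D.quad]
  mid v hv := by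
    obtain ⟨w₁, hw1, hw2⟩ := D.mid v hv
    obtain ⟨w₁, rfl⟩ := hs w₁
    refine ⟨w₁, hw1, fun w => ?_⟩
    show polar Q (D₂ (A (D₁ w)) : V) (g w₁) = polar Q v (t (D₁ w))
    rw [h3, hw2]

theorem Datum.add {g : V ≃ₗ[F] V} {W M : Submodule F V} {A : W →ₗ[F] W} {t : W →ₗ[F] V}
    (hW : TS Q W) (hg : g ∈ O Q)
    (D : Datum Q g W M A t) {φ : W →ₗ[F] W} (h1 : ∀ w : W, g w ∈ W → φ w = 0)
    (h2 : ∀ w : W, (φ w : V) ∈ W.map g.toLinearMap) : Datum Q g W M (A + φ) t := by
  have h3 : ∀ w w' : W, polar Q (φ w : V) (g w') = 0 := by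
    intro w w'
    obtain ⟨a, ha, hae⟩ := h2 w
    rw [← hae]
    show polar Q (g a) (g w') = 0
    rw [polar_map hg, hW.pz ha w'.2]
  refine ⟨D.tM, ?_, D.fixt, ?_, ?_⟩
  · intro w hw
    rw [LinearMap.add_apply, h1 w hw, add_zero]
    exact D.fixA w hw
  · intro w
    rw [LinearMap.add_apply, Submodule.coe_add, polar_add_left, h3, add_zero]
    exact D.quad w
  · intro v hv
    obtain ⟨w₁, hw1, hw2⟩ := D.mid v hv
    refine ⟨w₁, hw1, fun w => ?_⟩
    rw [LinearMap.add_apply, Submodule.coe_add, polar_add_left, h3, add_zero]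
    exact hw2 w

theorem exists_functional {U : Type*} [AddCommGroup U] [Module F U] [FiniteDimensional F U] {H : Submodule F U} {u : U} (hu : u ∉ H) :
    ∃ ψ : U →ₗ[F] F, (∀ h ∈ H, ψ h = 0) ∧ ψ u = 1 := by
  obtain ⟨ψ, h1, h2⟩ := Submodule.exists_dual_map_eq_bot_of_notMem hu inferInstance
  refine ⟨(ψ u)⁻¹ • ψ, fun h hh => ?_, ?_⟩
  · have h3 : ψ h ∈ H.map ψ := ⟨h, hh, rfl⟩
    rw [h2, Submodule.mem_bot] at h3
    rw [LinearMap.smul_apply, h3, smul_zero]
  · rw [LinearMap.smul_apply, smul_eq_mul, inv_mul_cancel₀ h1]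

theorem Adapted.exists_scale [FiniteDimensional F V] {g : V ≃ₗ[F] V} {W W' H W₁ : Submodule F V}
    (h : Adapted Q g W W' H W₁) (hW₁ : ∃ w ∈ W₁, w ≠ 0) {A : W →ₗ[F] W} {t : W →ₗ[F] V}
    (D : Datum Q g W (mids Q W W') A t) {c : F} (hc : c ≠ 0) :
    ∃ (A' : W →ₗ[F] W) (t' : W →ₗ[F] V), Datum Q g W (mids Q W W') A' t' ∧
      LinearMap.det A' = c * c * LinearMap.det A := by
  classical
  obtain ⟨p, hp1, hp2⟩ := h.exists_p
  obtain ⟨w₀, hw₀, hw₀0⟩ := hW₁
  -- the projection to `W₁`
  let f : W →ₗ[F] W' := h.dp.symm.pr ∘ₗ g.toLinearMap ∘ₗ W.subtype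
  have hf1 : ∀ w : W, g w ∈ W → f w = 0 := by
    intro w hw
    apply Subtype.ext
    show (h.dp.symm.pr (g w) : V) = 0
    exact h.dp.symm.pr_of_perp (fun a ha => h.dp.ts.pz ha hw)
  have hf2 : ∀ (w : V) (hw : w ∈ W₁), f ⟨w, h.W₁W hw⟩ = ⟨g w, h.gW₁ w hw⟩ := by
    intro w hw
    exact Subtype.ext (h.dp.symm.pr_of_mem (h.gW₁ w hw))
  set e : W := ⟨w₀, h.W₁W hw₀⟩ with he
  have he0 : e ≠ 0 := fun h0 => hw₀0 (congrArg Subtype.val h0)
  -- a functional
  obtain ⟨χ, -, hχ⟩ := exists_functional (H := (⊥ : Submodule F W)) (u := e) (by simpa using he0)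
  let φ : W →ₗ[F] F := χ ∘ₗ p ∘ₗ f
  have hφe : φ e = 1 := by
    show χ (p (f e)) = 1
    rw [he, hf2 w₀ hw₀, hp2 ⟨w₀, h.W₁W hw₀⟩ hw₀]
    exact hχ
  have hφH : ∀ w : W, g w ∈ W → φ w = 0 := by
    intro w hw
    show χ (p (f w)) = 0
    rw [hf1 w hw, map_zero, map_zero]
  let r : W := h.dp.equiv.symm (χ ∘ₗ p)
  have hr : ∀ w : W, polar Q (r : V) (g w) = φ w := by
    intro w
    obtain ⟨a, ha, b, hb, hab⟩ := h.split w.2
    have hw : w = ⟨a, h.HW ha⟩ + ⟨b, h.W₁W hb⟩ := Subtype.ext hab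
    rw [hw, map_add, hφH ⟨a, h.HW ha⟩ (h.gH a ha), Submodule.coe_add, map_add, polar_add_right,
      h.dp.ts.pz r.2 (h.gH a ha)]
    have h1 := h.dp.equiv_symm (χ ∘ₗ p) ⟨g b, h.gW₁ b hb⟩
    have h2 : φ ⟨b, h.W₁W hb⟩ = (χ ∘ₗ p) ⟨g b, h.gW₁ b hb⟩ := by
      show χ (p (f ⟨b, h.W₁W hb⟩)) = _
      rw [hf2 b hb]; rfl
    rw [h2, ← h1]
  let ρ : W →ₗ[F] F := ((polarBilin Q).flip (g e)) ∘ₗ W.subtype
  have hρ : ∀ w : W, ρ w = polar Q (w : V) (g e) := fun w => rfl
  let D₁ : W →ₗ[F] W := LinearMap.transvection φ ((c - 1) • e)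
  let D₂ : W →ₗ[F] W := LinearMap.transvection ρ ((c - 1) • r)
  have hD₁ : ∀ w, D₁ w = w + φ w • ((c - 1) • e) := fun w => rfl
  have hD₂ : ∀ w, D₂ w = w + ρ w • ((c - 1) • r) := fun w => rfl
  have hdet1 : LinearMap.det D₁ = c := by
    rw [LinearMap.transvection.det, map_smul, hφe, smul_eq_mul]; ring
  have hdet2 : LinearMap.det D₂ = c := by
    rw [LinearMap.transvection.det, map_smul, hρ, hr, hφe, smul_eq_mul]; ring
  refine ⟨D₂ ∘ₗ A ∘ₗ D₁, t ∘ₗ D₁, D.conj ?_ ?_ ?_ ?_, ?_⟩
  · have h1 : IsUnit (LinearMap.det D₁) := by rw [hdet1]; exact isUnit_iff_ne_zero.2 hc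
    exact ((Module.End.isUnit_iff _).1 ((LinearMap.isUnit_iff_isUnit_det D₁).2 h1)).2
  · intro w hw
    rw [hD₁, hφH w hw, zero_smul, add_zero]
  · intro w hw
    rw [hD₂, hρ]
    have h1 : polar Q (g w) (g e) = 0 := by
      rw [polar_map h.gO, h.dp.ts.pz w.2 e.2]
    have h2 : polar Q ((⟨g w, hw⟩ : W) : V) (g e) = 0 := h1
    rw [h2, zero_smul, add_zero]
  · intro w w'
    rw [hD₂, hD₁, Submodule.coe_add, Submodule.coe_add, map_add, polar_add_left, polar_add_right, hρ]
    simp only [Submodule.coe_smul, map_smul, polar_smul_left, polar_smul_right, smul_eq_mul, hr]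
    ring
  · rw [LinearMap.det_comp, LinearMap.det_comp, hdet1, hdet2]
    ring

section Rank

variable {U : Type*} [AddCommGroup U] [Module F U] [FiniteDimensional F U]

theorem two_le_rank {N : U →ₗ[F] U} {a b : U} (h : ∀ c : F, N b ≠ c • N a) (ha : N a ≠ 0) :
    2 ≤ finrank F (LinearMap.range N) := by
  have hli : LinearIndependent F ![(⟨N a, ⟨a, rfl⟩⟩ : LinearMap.range N), ⟨N b, ⟨b, rfl⟩⟩] := by
    rw [LinearIndependent.pair_iff' (by
      intro h0; exact ha (congrArg Subtype.val h0))]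
    intro c hc
    exact h c (congrArg Subtype.val hc).symm
  have := hli.fintype_card_le_finrank
  simpa using this

theorem exists_rank_one {N : U →ₗ[F] U} (h : ¬ 2 ≤ finrank F (LinearMap.range N)) {a : U} (ha : N a ≠ 0) :
    ∃ f : U →ₗ[F] F, ∀ u, N u = f u • N a := by
  have h1 : ∀ u, ∃ c : F, N u = c • N a := by
    intro u
    by_contra hcon
    push Not at hcon
    exact h (two_le_rank hcon ha)
  obtain ⟨ψ, -, hψ⟩ := exists_functional (H := (⊥ : Submodule F U)) (u := N a) (by simpa using ha)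
  refine ⟨ψ ∘ₗ N, fun u => ?_⟩
  obtain ⟨c, hc⟩ := h1 u
  rw [LinearMap.comp_apply, hc, map_smul, hψ, smul_eq_mul, mul_one]

/-- The good corners. -/
def GoodC (A : U →ₗ[F] U) : Prop :=
  A = LinearMap.id ∨ ((∀ c : F, A ≠ c • LinearMap.id) ∧ 2 ≤ finrank F (LinearMap.range (A - LinearMap.id)))

theorem rank_adjust {A : U →ₗ[F] U} {H : Submodule F U} (hH0 : H ≠ ⊥) (hH1 : H ≠ ⊤)
    (hdet : LinearMap.det A = 1) :
    ∃ φ : U →ₗ[F] U, (∀ h ∈ H, φ h = 0) ∧ (∀ u, φ u ∈ H.map A) ∧ LinearMap.det (A + φ) = 1 ∧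
      GoodC (A + φ) := by
  classical
  obtain ⟨r₀, hr₀H, hr₀⟩ := Submodule.exists_mem_ne_zero_of_ne_bot hH0
  obtain ⟨u₀, -, hu₀⟩ := SetLike.exists_of_lt (lt_of_le_of_ne (le_top : H ≤ ⊤) hH1)
  have hinj : Function.Injective A := by
    rw [← LinearMap.ker_eq_bot]
    exact LinearMap.ker_eq_bot.2 (LinearMap.injective_iff_surjective.2
      (((Module.End.isUnit_iff A).1 ((LinearMap.isUnit_iff_isUnit_det A).2 (by rw [hdet]; exact isUnit_one))).2))
  -- adding a rank one map
  have hadd : ∀ (B : U →ₗ[F] U) (ψ : U →ₗ[F] F) (s : U), LinearMap.det B = 1 → (∀ h ∈ H, ψ h = 0) → s ∈ H →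
      LinearMap.det (B + ψ.smulRight (B s)) = 1 := by
    intro B ψ s hB hψ hs
    have e : B + ψ.smulRight (B s) = B ∘ₗ LinearMap.transvection ψ s := by
      ext u
      simp [LinearMap.transvection.apply]
    rw [e, LinearMap.det_comp, LinearMap.transvection.det, hB, hψ s hs]
    ring
  by_cases hc1 : ∀ h ∈ H, A h = h
  · have hHA : H.map A = H := by
      ext x
      constructor
      · rintro ⟨y, hy, rfl⟩
        rw [hc1 y hy]; exact hy
      · intro hx
        exact ⟨x, hx, hc1 x hx⟩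
    have hns : ∀ B : U →ₗ[F] U, B r₀ = r₀ → 2 ≤ finrank F (LinearMap.range (B - LinearMap.id)) →
        ∀ c : F, B ≠ c • LinearMap.id := by
      intro B hB hrk c hc
      have h1 : c • r₀ = r₀ := by
        have h0 := LinearMap.congr_fun hc r₀
        rw [hB] at h0
        exact h0.symm
      have h2 : c = 1 := by
        have h3 : (c - 1) • r₀ = 0 := by rw [sub_smul, one_smul, h1, sub_self]
        rcases smul_eq_zero.1 h3 with h4 | h4
        · exact sub_eq_zero.1 h4
        · exact absurd h4 hr₀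
      rw [hc, h2, one_smul, sub_self, LinearMap.range_zero, finrank_bot] at hrk
      omega
    by_cases hc2 : ∀ u, A u - u ∈ H
    · refine ⟨LinearMap.id - A, fun h hh => ?_, fun u => ?_, ?_, Or.inl ?_⟩
      · rw [LinearMap.sub_apply, hc1 h hh]; simp
      · rw [hHA]
        have := H.neg_mem (hc2 u)
        rw [neg_sub] at this
        exact this
      · rw [add_sub_cancel, LinearMap.det_id]
      · rw [add_sub_cancel]
    · push Not at hc2
      obtain ⟨u₁, hu₁⟩ := hc2
      by_cases hrk : 2 ≤ finrank F (LinearMap.range (A - LinearMap.id))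
      · exact ⟨0, fun _ _ => rfl, fun u => Submodule.zero_mem _, by rw [add_zero, hdet],
          Or.inr (by rw [add_zero]; exact ⟨hns A (hc1 _ hr₀H) hrk, hrk⟩)⟩
      · set z := (A - LinearMap.id : U →ₗ[F] U) u₁ with hz
        have hzH : z ∉ H := hu₁
        have hz0 : z ≠ 0 := fun h0 => hzH (by rw [h0]; exact H.zero_mem)
        obtain ⟨f, hf⟩ := exists_rank_one hrk hz0
        have hf1 : f u₁ = 1 := by
          have h1 := hf u₁
          rw [← hz] at h1
          have h2 : (f u₁ - 1) • z = 0 := by rw [sub_smul, one_smul, ← h1, sub_self]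
          rcases smul_eq_zero.1 h2 with h3 | h3
          · exact sub_eq_zero.1 h3
          · exact absurd h3 hz0
        have hfH : ∀ h ∈ H, f h = 0 := by
          intro h hh
          have h1 := hf h
          rw [LinearMap.sub_apply, hc1 h hh, LinearMap.id_apply, sub_self] at h1
          rcases smul_eq_zero.1 h1.symm with h3 | h3
          · exact h3
          · exact absurd h3 hz0
        have hfz : f z = 0 := by
          have e : A = LinearMap.transvection f z := by
            ext u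
            have h1 := hf u
            rw [LinearMap.transvection.apply, ← h1]
            simp
          rw [e, LinearMap.transvection.det] at hdet
          linear_combination hdet
        have hne : H ⊔ Submodule.span F {u₁} ≠ ⊤ := by
          intro htop
          have h1 : z ∈ H ⊔ Submodule.span F {u₁} := by rw [htop]; trivial
          obtain ⟨a, ha, b, hb, hab⟩ := Submodule.mem_sup.1 h1
          obtain ⟨c, rfl⟩ := Submodule.mem_span_singleton.1 hb
          have h2 : f z = c := by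
            rw [← hab, map_add, hfH a ha, map_smul, hf1]; simp
          rw [hfz] at h2
          rw [← h2, zero_smul, add_zero] at hab
          exact hzH (hab ▸ ha)
        obtain ⟨u₂, -, hu₂⟩ := SetLike.exists_of_lt (lt_of_le_of_ne (le_top : H ⊔ Submodule.span F {u₁} ≤ ⊤) hne)
        obtain ⟨ψ, hψ1, hψ2⟩ := exists_functional hu₂
        have hψH : ∀ h ∈ H, ψ h = 0 := fun h hh => hψ1 h (Submodule.mem_sup_left hh)
        have hψu : ψ u₁ = 0 := hψ1 u₁ (Submodule.mem_sup_right (Submodule.mem_span_singleton_self _))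
        have hAr : A r₀ = r₀ := hc1 r₀ hr₀H
        have hd := hadd A ψ r₀ hdet hψH hr₀H
        rw [hAr] at hd
        have hrk2 : 2 ≤ finrank F (LinearMap.range (A + ψ.smulRight r₀ - LinearMap.id)) := by
          refine two_le_rank (a := u₁) (b := u₂) ?_ ?_
          · intro c hc
            have h1 : (A + ψ.smulRight r₀ - LinearMap.id : U →ₗ[F] U) u₁ = z := by
              rw [hz]; simp [hψu]
            have h2 : (A + ψ.smulRight r₀ - LinearMap.id : U →ₗ[F] U) u₂ = f u₂ • z + r₀ := by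
              rw [← hf u₂]; simp [hψ2]; abel
            rw [h1, h2] at hc
            have h3 : (c - f u₂) • z = r₀ := by rw [sub_smul, ← hc]; abel
            by_cases h4 : c - f u₂ = 0
            · rw [h4, zero_smul] at h3
              exact hr₀ h3.symm
            · apply hzH
              have h5 : z = (c - f u₂)⁻¹ • r₀ := by rw [← h3, smul_smul, inv_mul_cancel₀ h4, one_smul]
              rw [h5]
              exact H.smul_mem _ hr₀H
          · have h1 : (A + ψ.smulRight r₀ - LinearMap.id : U →ₗ[F] U) u₁ = z := by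
              rw [hz]; simp [hψu]
            rw [h1]; exact hz0
        refine ⟨ψ.smulRight r₀, fun h hh => ?_, fun u => ?_, hd, Or.inr ⟨hns _ ?_ hrk2, hrk2⟩⟩
        · rw [LinearMap.smulRight_apply, hψH h hh, zero_smul]
        · rw [hHA, LinearMap.smulRight_apply]
          exact H.smul_mem _ hr₀H
        · rw [LinearMap.add_apply, LinearMap.smulRight_apply, hAr, hψH r₀ hr₀H, zero_smul, add_zero]
  · push Not at hc1
    obtain ⟨h₀, hh₀, hNh₀⟩ := hc1
    obtain ⟨ψ, hψ1, hψ2⟩ := exists_functional hu₀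
    -- first get the rank
    have step1 : ∃ φ : U →ₗ[F] U, (∀ h ∈ H, φ h = 0) ∧ (∀ u, φ u ∈ H.map A) ∧ LinearMap.det (A + φ) = 1 ∧
        2 ≤ finrank F (LinearMap.range (A + φ - LinearMap.id)) := by
      by_cases hrk : 2 ≤ finrank F (LinearMap.range (A - LinearMap.id))
      · exact ⟨0, fun _ _ => rfl, fun u => Submodule.zero_mem _, by rw [add_zero, hdet], by rw [add_zero]; exact hrk⟩
      · set z := (A - LinearMap.id : U →ₗ[F] U) h₀ with hz
        have hz0 : z ≠ 0 := by
          intro h0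
          apply hNh₀
          rw [hz, LinearMap.sub_apply, LinearMap.id_apply, sub_eq_zero] at h0
          exact h0
        obtain ⟨f, hf⟩ := exists_rank_one hrk hz0
        by_cases hR : ∃ s ∈ H, ∀ c : F, A s ≠ c • z
        · obtain ⟨s, hs, hsz⟩ := hR
          refine ⟨ψ.smulRight (A s), fun h hh => ?_, fun u => ?_, hadd A ψ s hdet hψ1 hs,
            two_le_rank (a := h₀) (b := u₀) ?_ ?_⟩
          · rw [LinearMap.smulRight_apply, hψ1 h hh, zero_smul]
          · rw [LinearMap.smulRight_apply]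
            exact Submodule.smul_mem _ _ ⟨s, hs, rfl⟩
          · intro c hc
            have h1 : (A + ψ.smulRight (A s) - LinearMap.id : U →ₗ[F] U) h₀ = z := by
              rw [hz]; simp [hψ1 h₀ hh₀]
            have h2 : (A + ψ.smulRight (A s) - LinearMap.id : U →ₗ[F] U) u₀ = f u₀ • z + A s := by
              rw [← hf u₀]; simp [hψ2]; abel
            rw [h1, h2] at hc
            apply hsz (c - f u₀)
            rw [sub_smul, ← hc]; abel
          · have h1 : (A + ψ.smulRight (A s) - LinearMap.id : U →ₗ[F] U) h₀ = z := by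
              rw [hz]; simp [hψ1 h₀ hh₀]
            rw [h1]; exact hz0
        · exfalso
          push Not at hR
          obtain ⟨a, ha⟩ := hR h₀ hh₀
          have h1 : h₀ = (a - 1) • z := by
            have h2 : A h₀ = h₀ + z := by rw [hz]; simp
            rw [sub_smul, one_smul, ← ha, h2]; abel
          have h3 : f h₀ = 1 := by
            have h4 := hf h₀
            rw [← hz] at h4
            have h5 : (f h₀ - 1) • z = 0 := by rw [sub_smul, one_smul, ← h4, sub_self]
            rcases smul_eq_zero.1 h5 with h6 | h6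
            · exact sub_eq_zero.1 h6
            · exact absurd h6 hz0
          have hfz : f z = 0 := by
            have e : A = LinearMap.transvection f z := by
              ext u
              have h1 := hf u
              rw [LinearMap.transvection.apply, ← h1]
              simp
            rw [e, LinearMap.transvection.det] at hdet
            linear_combination hdet
          rw [h1, map_smul, hfz, smul_zero] at h3
          exact zero_ne_one h3
    obtain ⟨φ, hφ1, hφ2, hφ3, hφ4⟩ := step1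
    by_cases hns : ∀ c : F, A + φ ≠ c • LinearMap.id
    · exact ⟨φ, hφ1, hφ2, hφ3, Or.inr ⟨hns, hφ4⟩⟩
    · push Not at hns
      obtain ⟨c, hc⟩ := hns
      have hc1 : c ≠ 1 := by
        intro h1
        rw [hc, h1, one_smul, sub_self, LinearMap.range_zero, finrank_bot] at hφ4
        omega
      have hAH : ∀ h ∈ H, A h = c • h := by
        intro h hh
        have h1 := LinearMap.congr_fun hc h
        rw [LinearMap.add_apply, hφ1 h hh, add_zero] at h1
        simpa using h1
      have hc0 : c ≠ 0 := by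
        intro h0
        have h1 := hAH r₀ hr₀H
        rw [h0, zero_smul] at h1
        exact hr₀ (hinj (by rw [h1, map_zero]))
      have hBr : (A + φ) r₀ = A r₀ := by rw [LinearMap.add_apply, hφ1 r₀ hr₀H, add_zero]
      have hd := hadd (A + φ) ψ r₀ hφ3 hψ1 hr₀H
      rw [hBr] at hd
      have hAr : A r₀ = c • r₀ := hAH r₀ hr₀H
      have hAr0 : A r₀ ≠ 0 := by
        rw [hAr]; exact smul_ne_zero hc0 hr₀
      refine ⟨φ + ψ.smulRight (A r₀), fun h hh => ?_, fun u => ?_, ?_, Or.inr ⟨?_, ?_⟩⟩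
      · rw [LinearMap.add_apply, hφ1 h hh, LinearMap.smulRight_apply, hψ1 h hh, zero_smul, add_zero]
      · rw [LinearMap.add_apply, LinearMap.smulRight_apply]
        exact Submodule.add_mem _ (hφ2 u) (Submodule.smul_mem _ _ ⟨r₀, hr₀H, rfl⟩)
      · rw [← add_assoc]; exact hd
      · intro c' hc'
        rw [← add_assoc, hc] at hc'
        have h1 := LinearMap.congr_fun hc' r₀
        rw [LinearMap.add_apply, LinearMap.smulRight_apply, hψ1 r₀ hr₀H, zero_smul, add_zero] at h1
        have h2 : (c - c') • r₀ = 0 := by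
          rw [sub_smul]
          exact sub_eq_zero.2 h1
        have h3 : c = c' := by
          rcases smul_eq_zero.1 h2 with h4 | h4
          · exact sub_eq_zero.1 h4
          · exact absurd h4 hr₀
        have h4 := LinearMap.congr_fun hc' u₀
        rw [LinearMap.add_apply, LinearMap.smulRight_apply, hψ2, one_smul, h3] at h4
        exact hAr0 (by simpa using h4)
      · rw [← add_assoc, hc]
        have hinj2 : Function.Injective (c • LinearMap.id + ψ.smulRight (A r₀) - LinearMap.id : U →ₗ[F] U) := by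
          rw [← LinearMap.ker_eq_bot, LinearMap.ker_eq_bot']
          intro u hu
          have h1 : (c - 1) • u = (-(ψ u)) • A r₀ := by
            have h2 : c • u + ψ u • A r₀ - u = 0 := hu
            rw [← sub_eq_zero, ← h2]
            module
          have h3 : ψ u = 0 := by
            have h4 := congrArg ψ h1
            rw [map_smul, map_smul, hAr, map_smul, hψ1 r₀ hr₀H, smul_zero, smul_zero, smul_eq_mul] at h4
            rcases mul_eq_zero.1 h4 with h5 | h5
            · exact absurd (sub_eq_zero.1 h5) hc1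
            · exact h5
          rw [h3, neg_zero, zero_smul] at h1
          rcases smul_eq_zero.1 h1 with h5 | h5
          · exact absurd (sub_eq_zero.1 h5) hc1
          · exact h5
        have h6 := LinearMap.finrank_range_of_inj hinj2
        rw [h6]
        refine le_trans ?_ (le_of_eq rfl)
        have h7 := Submodule.finrank_le (LinearMap.range (A + φ - LinearMap.id))
        omega

end Rank

end Cfsg.Agent.H434.Corn
end

-- part: H434/CornMove
section
/-!
# Corners of isometries V: moved maximal totally singular subspaces (helper434)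

A non-scalar isometry moves a maximal totally singular subspace `W` with `W ∩ g W ≠ 0` (dimension `≥ 3`).
-/

set_option autoImplicit false

namespace Cfsg.Agent.H434.Corn

open Module QuadraticMap Cfsg.Agent.LieClassical.OrthCore Cfsg.Agent.LieClassical.OrthTrans
  Cfsg.Agent.LieClassical.OrthFinite

variable {F V : Type*} [Field F] [AddCommGroup V] [Module F V] {Q : QuadraticForm F V}

theorem ts_span_pair {x y : V} (hx : Q x = 0) (hy : Q y = 0) (hxy : polar Q x y = 0) :
    TS Q (Submodule.span F {x, y}) := by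
  intro z hz
  obtain ⟨a, b, rfl⟩ := Submodule.mem_span_pair.1 hz
  rw [Q_add, QuadraticMap.map_smul, QuadraticMap.map_smul, hx, hy, polar_smul_left, polar_smul_right, hxy]
  simp

theorem ts_span {x : V} (hx : Q x = 0) : TS Q (Submodule.span F {x}) := by
  intro z hz
  obtain ⟨a, rfl⟩ := Submodule.mem_span_singleton.1 hz
  rw [QuadraticMap.map_smul, hx, smul_zero]

/-- an isometry which maps every singular vector to a multiple of itself is a scalar -/
theorem scalar_of_lines [FiniteDimensional F V] (hQ : Nondeg Q) (hd : 3 ≤ finrank F V) {x₀ : V}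
    (hx₀ : Q x₀ = 0) (hx₀0 : x₀ ≠ 0) {g : V ≃ₗ[F] V} (hg : g ∈ O Q)
    (h : ∀ x, Q x = 0 → ∃ c : F, g x = c • x) : ∃ c : F, ∀ v, g v = c • v := by
  obtain ⟨y₀, hxy⟩ := exists_hyp hQ hx₀ hx₀0
  obtain ⟨a, ha⟩ := h x₀ hx₀
  obtain ⟨b, hb⟩ := h y₀ hxy.right
  have hab : a * b = 1 := by
    have h1 := polar_map hg x₀ y₀
    rw [ha, hb, polar_smul_left, polar_smul_right, hxy.pair] at h1
    simpa using h1
  -- on the orthogonal space
  have key : ∀ v, polar Q x₀ v = 0 → polar Q y₀ v = 0 → g v = a • v ∧ (Q v ≠ 0 → b = a) := by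
    intro v hxv hyv
    have hs : Q (x₀ + v - Q v • y₀) = 0 := by
      have e : x₀ + v - Q v • y₀ = (x₀ + v) + (-(Q v)) • y₀ := by module
      rw [e, Q_add, Q_add, hx₀, hxv, QuadraticMap.map_smul, hxy.right, polar_smul_right,
        polar_add_left, hxy.pair, polar_comm Q v y₀, hyv]
      simp
    obtain ⟨c, hc⟩ := h _ hs
    have hxg : polar Q x₀ (g v) = 0 := by
      have h1 := polar_map hg x₀ v
      rw [ha, polar_smul_left, hxv, smul_eq_mul] at h1
      rcases mul_eq_zero.1 h1 with h2 | h2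
      · rw [h2, zero_mul] at hab; exact absurd hab zero_ne_one
      · exact h2
    have hyg : polar Q y₀ (g v) = 0 := by
      have h1 := polar_map hg y₀ v
      rw [hb, polar_smul_left, hyv, smul_eq_mul] at h1
      rcases mul_eq_zero.1 h1 with h2 | h2
      · rw [h2, mul_zero] at hab; exact absurd hab zero_ne_one
      · exact h2
    rw [map_sub, map_add, map_smul, ha, hb] at hc
    have e1 : a = c := by
      have h1 := congrArg (fun z => polar Q y₀ z) hc
      simp only [polar_sub_right, polar_add_right, polar_smul_right, hxy.pair', hyg, hxy.polar_right, hyv,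
        smul_eq_mul] at h1
      linear_combination h1
    have e2 : Q v * b = c * Q v := by
      have h1 := congrArg (fun z => polar Q x₀ z) hc
      simp only [polar_sub_right, polar_add_right, polar_smul_right, hxy.pair, hxg, hxy.polar_left, hxv,
        smul_eq_mul] at h1
      linear_combination -h1
    rw [← e1] at hc e2
    refine ⟨?_, fun hne => ?_⟩
    · have e3 : Q v • b • y₀ = a • Q v • y₀ := by rw [smul_smul, smul_smul, e2]
      rw [e3, smul_sub, smul_add] at hc
      have h1 : a • x₀ + g v - a • Q v • y₀ - (a • x₀ + a • v - a • Q v • y₀) = 0 := sub_eq_zero.2 hc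
      have h2 : g v - a • v = 0 := by rw [← h1]; abel
      exact sub_eq_zero.1 h2
    · exact mul_left_cancel₀ hne (by rw [e2]; ring)
  -- a vector which is not singular and orthogonal to the pair
  obtain ⟨v, hv0, hxv, hyv⟩ : ∃ v : V, v ≠ 0 ∧ polar Q x₀ v = 0 ∧ polar Q y₀ v = 0 := by
    obtain ⟨v, w, h1, h2, -, -, h5⟩ := exists_perp2 hQ hd hxy
    refine ⟨v, ?_, h1, h2⟩
    rintro rfl
    rw [polar_zero_left] at h5
    exact zero_ne_one h5
  have hab' : b = a := by
    by_contra hne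
    have hall : ∀ u, polar Q x₀ u = 0 → polar Q y₀ u = 0 → Q u = 0 := by
      intro u h1 h2
      by_contra h3
      exact hne ((key u h1 h2).2 h3)
    apply hv0
    apply hQ
    intro z
    set z' := z - polar Q y₀ z • x₀ - polar Q x₀ z • y₀ with hz'
    have h1 : polar Q x₀ z' = 0 := by
      rw [hz', polar_sub_right, polar_sub_right, polar_smul_right, polar_smul_right, hxy.polar_left, hxy.pair]
      simp
    have h2 : polar Q y₀ z' = 0 := by
      rw [hz', polar_sub_right, polar_sub_right, polar_smul_right, polar_smul_right, hxy.polar_right, hxy.pair']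
      simp
    have h3 : polar Q v z' = 0 := by
      have h4 := Q_add (Q := Q) v z'
      rw [hall v hxv hyv, hall z' h1 h2, hall (v + z') (by rw [polar_add_right, hxv, h1, add_zero])
        (by rw [polar_add_right, hyv, h2, add_zero])] at h4
      linear_combination -h4
    have h5 : z = z' + polar Q y₀ z • x₀ + polar Q x₀ z • y₀ := by rw [hz']; abel
    rw [h5, polar_add_right, polar_add_right, polar_smul_right, polar_smul_right, h3,
      polar_comm Q v x₀, polar_comm Q v y₀, hxv, hyv]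
    simp
  refine ⟨a, fun z => ?_⟩
  set z' := z - polar Q y₀ z • x₀ - polar Q x₀ z • y₀ with hz'
  have h1 : polar Q x₀ z' = 0 := by
    rw [hz', polar_sub_right, polar_sub_right, polar_smul_right, polar_smul_right, hxy.polar_left, hxy.pair]
    simp
  have h2 : polar Q y₀ z' = 0 := by
    rw [hz', polar_sub_right, polar_sub_right, polar_smul_right, polar_smul_right, hxy.polar_right, hxy.pair']
    simp
  have h5 : z = z' + polar Q y₀ z • x₀ + polar Q x₀ z • y₀ := by rw [hz']; abel
  rw [h5]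
  rw [map_add, map_add, map_smul, map_smul, (key z' h1 h2).1, ha, hb, hab']
  module

variable [FiniteDimensional F V]

/-- If all maximal totally singular subspaces are invariant then `g` is scalar. -/
theorem scalar_of_invariant (hQ : Nondeg Q) (hd : 3 ≤ finrank F V) {x₀ : V}
    (hx₀ : Q x₀ = 0) (hx₀0 : x₀ ≠ 0) {g : V ≃ₗ[F] V} (hg : g ∈ O Q)
    (h : ∀ W, MaxTS Q W → ∀ w ∈ W, g w ∈ W) : ∃ c : F, ∀ v, g v = c • v := by
  refine scalar_of_lines hQ hd hx₀ hx₀0 hg fun x hx => ?_
  by_contra hcon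
  push Not at hcon
  have hx0 : x ≠ 0 := by
    rintro rfl
    exact hcon 0 (by simp)
  have hgx : Q (g x) = 0 := by rw [mem_O.1 hg]; exact hx
  obtain ⟨W, hxW, hW⟩ := exists_maxTS (ts_span hx)
  have hx1 : x ∈ W := hxW (Submodule.mem_span_singleton_self x)
  have hx2 : g x ∈ W := h W hW x hx1
  have hp : polar Q x (g x) = 0 := hW.ts.pz hx1 hx2
  have hT := ts_span_pair hx hgx hp
  obtain ⟨W', -, hdp⟩ := exists_partner hQ hT (X := ⊥) (fun x hx => by
    rw [(Submodule.mem_bot F).1 hx, QuadraticMap.map_zero]) (fun x hx _ => (Submodule.mem_bot F).1 hx)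
  -- a functional on `⟨x, g x⟩`
  have hxT : x ∈ Submodule.span F {x, g x} := Submodule.subset_span (by simp)
  have hgT : g x ∈ Submodule.span F {x, g x} := Submodule.subset_span (by simp)
  have hnot : (⟨g x, hgT⟩ : Submodule.span F {x, g x}) ∉
      Submodule.span F {(⟨x, hxT⟩ : Submodule.span F {x, g x})} := by
    intro hmem
    obtain ⟨c, hc⟩ := Submodule.mem_span_singleton.1 hmem
    exact hcon c (congrArg Subtype.val hc).symm
  obtain ⟨ψ, h1, h2⟩ := Submodule.exists_dual_map_eq_bot_of_notMem hnot inferInstance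
  obtain ⟨z, hz, hze⟩ := hdp.symm.exists_eq ψ
  have hzx : polar Q x z = 0 := by
    rw [polar_comm]
    have h3 := hze ⟨x, hxT⟩
    have h4 : ψ ⟨x, hxT⟩ ∈ (Submodule.span F {(⟨x, hxT⟩ : Submodule.span F {x, g x})}).map ψ :=
      ⟨_, Submodule.mem_span_singleton_self _, rfl⟩
    rw [h2, Submodule.mem_bot] at h4
    rw [← h4]; exact h3
  have hzg : polar Q z (g x) ≠ 0 := by
    have h3 := hze ⟨g x, hgT⟩
    intro h4
    apply h1
    rw [← h3]; exact h4
  obtain ⟨W₂, hW₂, hmW₂⟩ := exists_maxTS (ts_span_pair hx (hdp.ts' z hz) hzx)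
  have h5 : x ∈ W₂ := hW₂ (Submodule.subset_span (by simp))
  have h6 : z ∈ W₂ := hW₂ (Submodule.subset_span (by simp))
  exact hzg (hmW₂.ts.pz h6 (h W₂ hmW₂ x h5))

/-- All maximal totally singular subspaces have the same dimension. -/
theorem MaxTS.finrank_le {W₁ W₂ : Submodule F V} (h₁ : MaxTS Q W₁) (h₂ : MaxTS Q W₂) :
    finrank F W₂ ≤ finrank F W₁ := by
  let I : Submodule F W₁ := W₂.comap W₁.subtype
  let f : W₂ →ₗ[F] Dual F W₁ := pairing Q W₂ W₁
  have hrange : LinearMap.range f ≤ I.dualAnnihilator := by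
    rintro _ ⟨w, rfl⟩
    rw [Submodule.mem_dualAnnihilator]
    intro x hx
    exact h₂.ts.pz w.2 hx
  have hker : finrank F (LinearMap.ker f) ≤ finrank F I := by
    have hmem : ∀ w : LinearMap.ker f, ((w : W₂) : V) ∈ W₁ := by
      intro w
      refine h₁.max _ (h₂.ts _ (w : W₂).2) (fun a ha => ?_)
      have h3 : f w = 0 := w.2
      have h4 := LinearMap.congr_fun h3 ⟨a, ha⟩
      rw [polar_comm]; exact h4
    let j : LinearMap.ker f →ₗ[F] I :=
      LinearMap.codRestrict I (LinearMap.codRestrict W₁ (W₂.subtype ∘ₗ (LinearMap.ker f).subtype) hmem)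
        (fun w => (w : W₂).2)
    refine LinearMap.finrank_le_finrank_of_injective (f := j) ?_
    intro a b hab
    apply Subtype.ext
    apply Subtype.ext
    exact congrArg (fun z : I => ((z : W₁) : V)) hab
  have h1 := LinearMap.finrank_range_add_finrank_ker f
  have h2 := Submodule.finrank_mono hrange
  have h3 := Subspace.finrank_add_finrank_dualAnnihilator_eq I
  omega

theorem MaxTS.finrank_eq {W₁ W₂ : Submodule F V} (h₁ : MaxTS Q W₁) (h₂ : MaxTS Q W₂) :
    finrank F W₂ = finrank F W₁ := le_antisymm (h₁.finrank_le h₂) (h₂.finrank_le h₁)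

/-- two subspaces of small codimension meet -/
theorem exists_inf {U K L : Submodule F V} (hK : K ≤ U) (hL : L ≤ U) (h : finrank F U < finrank F K + finrank F L) :
    ∃ y ∈ K, y ∈ L ∧ y ≠ 0 := by
  have h1 := Submodule.finrank_sup_add_finrank_inf_eq K L
  have h2 := Submodule.finrank_mono (sup_le hK hL)
  have h3 : K ⊓ L ≠ ⊥ := by
    intro h0
    rw [h0, finrank_bot] at h1
    omega
  obtain ⟨y, hy, hy0⟩ := Submodule.exists_mem_ne_zero_of_ne_bot h3
  exact ⟨y, hy.1, hy.2, hy0⟩

theorem exists_of_neighbour {W₁ U : Submodule F V} {g : V ≃ₗ[F] V} (hU : ∀ w ∈ U, g w ∈ U)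
    (h3 : 3 ≤ finrank F U) (h : finrank F U ≤ finrank F ↥(W₁ ⊓ U) + 1) :
    ∃ w ∈ W₁, w ≠ 0 ∧ g w ∈ W₁ := by
  have h4 : finrank F ↥((W₁ ⊓ U).map g.toLinearMap) = finrank F ↥(W₁ ⊓ U) := LinearEquiv.finrank_map_eq g _
  obtain ⟨y, hy1, ⟨w, hw, rfl⟩, hy0⟩ := exists_inf (U := U) (K := W₁ ⊓ U) (L := (W₁ ⊓ U).map g.toLinearMap)
    inf_le_right (by rintro _ ⟨z, hz, rfl⟩; exact hU z hz.2) (by omega)
  refine ⟨w, hw.1, ?_, hy1.1⟩
  rintro rfl
  exact hy0 (map_zero _)

omit [FiniteDimensional F V] in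
/-- The neighbour of `W` through `u`. -/
theorem MaxTS.neighbour {W : Submodule F V} (hW : MaxTS Q W) {u : V} (hu : Q u = 0) (huW : u ∉ W) :
    MaxTS Q (Submodule.span F {u} ⊔ (W ⊓ perp Q (Submodule.span F {u}))) := by
  have hmem : ∀ k, k ∈ perp Q (Submodule.span F {u}) ↔ polar Q u k = 0 := by
    intro k
    constructor
    · intro h; exact h u (Submodule.mem_span_singleton_self u)
    · intro h w hw
      obtain ⟨c, rfl⟩ := Submodule.mem_span_singleton.1 hw
      rw [polar_smul_left, h, smul_zero]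
  obtain ⟨w₀, hw₀, hw₀u⟩ : ∃ w₀ ∈ W, polar Q w₀ u ≠ 0 := by
    by_contra hcon
    push Not at hcon
    exact huW (hW.max u hu hcon)
  constructor
  · intro z hz
    obtain ⟨a, ha, b, hb, rfl⟩ := Submodule.mem_sup.1 hz
    obtain ⟨c, rfl⟩ := Submodule.mem_span_singleton.1 ha
    rw [Q_add, QuadraticMap.map_smul, hu, hW.ts b hb.1, polar_smul_left, (hmem b).1 hb.2]
    simp
  · intro y hy hp
    have hyu : polar Q u y = 0 := hp u (Submodule.mem_sup_left (Submodule.mem_span_singleton_self u))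
    set c := (polar Q w₀ u)⁻¹ * polar Q w₀ y with hc
    have hz : Q (y - c • u) = 0 := by
      have e : y - c • u = y + (-c) • u := by module
      rw [e, Q_add, hy, QuadraticMap.map_smul, hu, polar_smul_right, polar_comm Q y u, hyu]
      simp
    have hz2 : ∀ w ∈ W, polar Q w (y - c • u) = 0 := by
      intro w hw
      -- decompose `w`
      set d := (polar Q w₀ u)⁻¹ * polar Q w u with hd
      have hk : w - d • w₀ ∈ W ⊓ perp Q (Submodule.span F {u}) := by
        refine ⟨W.sub_mem hw (W.smul_mem _ hw₀), (hmem _).2 ?_⟩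
        rw [polar_sub_right, polar_smul_right, polar_comm Q u w, polar_comm Q u w₀, smul_eq_mul, hd]
        field_simp
        ring
      have h1 : polar Q (w - d • w₀) y = 0 := hp _ (Submodule.mem_sup_right hk)
      have h2 : polar Q (w - d • w₀) u = 0 := by rw [polar_comm]; exact (hmem _).1 hk.2
      have h3 : polar Q w₀ (y - c • u) = 0 := by
        rw [polar_sub_right, polar_smul_right, smul_eq_mul, hc]
        field_simp
        ring
      have e : w = (w - d • w₀) + d • w₀ := by abel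
      rw [e, polar_add_left, polar_smul_left, h3, polar_sub_right, polar_smul_right, h1, h2]
      simp
    have h4 : y - c • u ∈ W := hW.max _ hz hz2
    have h5 : y - c • u ∈ W ⊓ perp Q (Submodule.span F {u}) := by
      refine ⟨h4, (hmem _).2 ?_⟩
      rw [polar_sub_right, polar_smul_right, hyu, polar_self_of_sing hu]
      simp
    have e : y = c • u + (y - c • u) := by abel
    rw [e]
    exact Submodule.add_mem_sup (Submodule.smul_mem _ _ (Submodule.mem_span_singleton_self u)) h5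

/-- **Existence of a moved maximal totally singular subspace meeting its image.** -/
theorem exists_moved [Finite F] (hQ : Nondeg Q) {g : V ≃ₗ[F] V} (hg : g ∈ O Q)
    (hs : ∀ c : F, ∃ v, g v ≠ c • v) (h3 : ∀ W, MaxTS Q W → 3 ≤ finrank F W) :
    ∃ W, MaxTS Q W ∧ (∃ w ∈ W, g w ∉ W) ∧ ∃ w ∈ W, w ≠ 0 ∧ g w ∈ W := by
  classical
  by_contra hcon
  push Not at hcon
  have hcon' : ∀ W, MaxTS Q W → (∃ w ∈ W, w ≠ 0 ∧ g w ∈ W) → ∀ w ∈ W, g w ∈ W := by
    intro W hW h1 w hw
    by_contra h2
    obtain ⟨w', h3, h4, h5⟩ := h1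
    exact hcon W hW ⟨w, hw, h2⟩ w' h3 h4 h5
  -- some subspace is moved
  obtain ⟨W₀, -, hW₀⟩ := exists_maxTS (Q := Q) (T := (⊥ : Submodule F V)) (fun x hx => by
    rw [(Submodule.mem_bot F).1 hx, QuadraticMap.map_zero])
  have hd3 : 3 ≤ finrank F V := (h3 W₀ hW₀).trans (Submodule.finrank_le _)
  obtain ⟨x₀, hx₀, hx₀0⟩ : ∃ x ∈ W₀, x ≠ 0 := by
    have : W₀ ≠ ⊥ := by
      intro h0
      have := h3 W₀ hW₀
      rw [h0, finrank_bot] at this
      omega
    obtain ⟨x, hx, hx0⟩ := Submodule.exists_mem_ne_zero_of_ne_bot this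
    exact ⟨x, hx, hx0⟩
  obtain ⟨Wa, hWa, wa, hwa, hwa'⟩ : ∃ W, MaxTS Q W ∧ ∃ w ∈ W, g w ∉ W := by
    by_contra h
    push Not at h
    obtain ⟨c, hc⟩ := scalar_of_invariant hQ hd3 (hW₀.ts x₀ hx₀) hx₀0 hg h
    obtain ⟨v, hv⟩ := hs c
    exact hv (hc v)
  -- an invariant one
  let q : QuadraticForm F V := LinearMap.BilinMap.toQuadraticMap ((polarBilin Q).compl₂ g.toLinearMap)
  obtain ⟨x, hxa, hx0, hxq⟩ := exists_sing_mem (Q := q) Wa (h3 Wa hWa)
  have hxq' : polar Q x (g x) = 0 := hxq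
  have hxs : Q x = 0 := hWa.ts x hxa
  obtain ⟨Wb, hxb, hWb⟩ := exists_maxTS (ts_span_pair hxs (by rw [mem_O.1 hg]; exact hxs) hxq')
  have hWbi : ∀ w ∈ Wb, g w ∈ Wb := hcon' Wb hWb
    ⟨x, hxb (Submodule.subset_span (by simp)), hx0, hxb (Submodule.subset_span (by simp))⟩
  -- a moved subspace with maximal intersection with `Wb`
  have hb : ∃ n, ∃ W, MaxTS Q W ∧ (∃ w ∈ W, g w ∉ W) ∧ finrank F V - finrank F ↥(W ⊓ Wb) = n :=
    ⟨_, Wa, hWa, ⟨wa, hwa, hwa'⟩, rfl⟩
  obtain ⟨W₁, hW₁, ⟨w₁, hw₁, hw₁'⟩, hn⟩ := Nat.find_spec hb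
  have hdim := hW₁.finrank_eq hWb
  have hb3 := h3 Wb hWb
  by_cases hc : finrank F Wb ≤ finrank F ↥(W₁ ⊓ Wb) + 1
  · exact hw₁' (hcon' W₁ hW₁ (exists_of_neighbour hWbi hb3 hc) w₁ hw₁)
  · push Not at hc
    obtain ⟨u, hub, hu1⟩ : ∃ u ∈ Wb, u ∉ W₁ := by
      by_contra h
      push Not at h
      have h4 : Wb ≤ W₁ ⊓ Wb := fun y hy => ⟨h y hy, hy⟩
      have := Submodule.finrank_mono h4
      omega
    set U := Submodule.span F {u} ⊔ (W₁ ⊓ perp Q (Submodule.span F {u})) with hU
    have hUm : MaxTS Q U := hW₁.neighbour (hWb.ts u hub) hu1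
    have hUi : ∀ w ∈ U, g w ∈ U := by
      by_contra hmv
      push Not at hmv
      have h5 : (W₁ ⊓ Wb) ⊔ Submodule.span F {u} ≤ U ⊓ Wb := by
        refine sup_le (le_inf ?_ inf_le_right) (le_inf le_sup_left
          ((Submodule.span_singleton_le_iff_mem _ _).2 hub))
        refine le_trans ?_ le_sup_right
        rintro k ⟨hk1, hk2⟩
        refine ⟨hk1, fun w hw => ?_⟩
        obtain ⟨c, rfl⟩ := Submodule.mem_span_singleton.1 hw
        rw [polar_smul_left, hWb.ts.pz hub hk2, smul_zero]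
      have h6 : W₁ ⊓ Wb < (W₁ ⊓ Wb) ⊔ Submodule.span F {u} := by
        refine lt_of_le_of_ne le_sup_left (fun h7 => hu1 ?_)
        have h8 : u ∈ W₁ ⊓ Wb := by
          rw [h7]; exact Submodule.mem_sup_right (Submodule.mem_span_singleton_self u)
        exact h8.1
      have h7 := Submodule.finrank_lt_finrank_of_lt h6
      have h8 := Submodule.finrank_mono h5
      have h9 := Submodule.finrank_le (U ⊓ Wb)
      exact Nat.find_min hb (m := finrank F V - finrank F ↥(U ⊓ Wb)) (by omega) ⟨U, hUm, hmv, rfl⟩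
    have hcod : finrank F U ≤ finrank F ↥(W₁ ⊓ U) + 1 := by
      have h5 : W₁ ⊓ perp Q (Submodule.span F {u}) ≤ W₁ ⊓ U := le_inf inf_le_left le_sup_right
      have h6 := Submodule.finrank_mono h5
      have h7 := Submodule.finrank_add_le_finrank_add_finrank (Submodule.span F {u})
        (W₁ ⊓ perp Q (Submodule.span F {u}))
      have h8 : finrank F (Submodule.span F {u}) ≤ 1 := by
        have := finrank_span_le_card (R := F) ({u} : Set V)
        simpa using this
      rw [← hU] at h7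
      omega
    exact hw₁' (hcon' W₁ hW₁ (exists_of_neighbour hUi (h3 U hUm) hcod) w₁ hw₁)

end Cfsg.Agent.H434.Corn
end

-- part: H434/CornParity
section
/-!
# Corners of isometries IV: parity (helper434)

For `g` in the commutator subgroup of `O Q`, `dim W₁ + rank (g₀ - 1)` is even.
-/

set_option autoImplicit false

namespace Cfsg.Agent.H434.Corn

open Module QuadraticMap Cfsg.Agent.LieClassical.OrthCore Cfsg.Agent.LieClassical.OrthTrans

variable {F V : Type*} [Field F] [AddCommGroup V] [Module F V] {Q : QuadraticForm F V}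

/-- The doubled form on `V × M`. -/
def dbl (Q : QuadraticForm F V) (M : Submodule F V) : QuadraticForm F (V × M) :=
  Q.comp (LinearMap.fst F V M) - Q.comp (M.subtype ∘ₗ LinearMap.snd F V M)

theorem dbl_apply (M : Submodule F V) (x : V × M) : dbl Q M x = Q x.1 - Q (x.2 : V) := rfl

theorem polar_dbl (M : Submodule F V) (x y : V × M) :
    polar (dbl Q M) x y = polar Q x.1 y.1 - polar Q (x.2 : V) (y.2 : V) := by
  simp only [polar, dbl_apply, Prod.fst_add, Prod.snd_add, Submodule.coe_add]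
  ring

theorem DP.mids_nondeg [FiniteDimensional F V] (hQ : Nondeg Q) {W W' : Submodule F V} (h : DP Q W W')
    {m : V} (hm : m ∈ mids Q W W') (hp : ∀ n ∈ mids Q W W', polar Q m n = 0) : m = 0 := by
  apply hQ
  intro y
  rw [h.decomp y, polar_add_right, polar_add_right, hp _ (h.mid_mem y), polar_comm Q m, hm.1 _ (h.pr y).2,
    polar_comm Q m, hm.2 _ (h.symm.pr y).2]
  simp

theorem nondeg_dbl [FiniteDimensional F V] (hQ : Nondeg Q) {W W' : Submodule F V} (h : DP Q W W') :
    Nondeg (dbl Q (mids Q W W')) := by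
  rintro ⟨v, m⟩ hp
  have h1 : v = 0 := by
    apply hQ
    intro y
    have := hp (y, 0)
    rw [polar_dbl] at this
    simpa [polar_zero_right] using this
  have h2 : (m : V) = 0 := by
    refine h.mids_nondeg hQ m.2 (fun n hn => ?_)
    have := hp (0, ⟨n, hn⟩)
    rw [polar_dbl] at this
    simpa [polar_zero_right] using this
  exact Prod.ext h1 (Subtype.ext h2)

/-- The extension by the identity. -/
def ext1 (M : Submodule F V) : (V ≃ₗ[F] V) →* ((V × M) ≃ₗ[F] (V × M)) where
  toFun g := g.prodCongr (LinearEquiv.refl F M)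
  map_one' := by
    apply LinearEquiv.ext
    intro x
    rfl
  map_mul' a b := by
    apply LinearEquiv.ext
    intro x
    rfl

theorem ext1_apply (M : Submodule F V) (g : V ≃ₗ[F] V) (x : V × M) : ext1 M g x = (g x.1, x.2) := rfl

theorem ext1_mem (M : Submodule F V) {g : V ≃ₗ[F] V} (hg : g ∈ ⁅O Q, O Q⁆) :
    ext1 M g ∈ ⁅O (dbl Q M), O (dbl Q M)⁆ := by
  have h1 : (O Q).map (ext1 M) ≤ O (dbl Q M) := by
    rintro _ ⟨x, hx, rfl⟩
    rw [mem_O]
    intro v
    rw [dbl_apply, dbl_apply, ext1_apply]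
    simp only
    rw [mem_O.1 hx]
  have h2 : ext1 M g ∈ (⁅O Q, O Q⁆).map (ext1 M) := ⟨g, hg, rfl⟩
  rw [Subgroup.map_commutator] at h2
  exact Subgroup.commutator_mono h1 h1 h2

theorem mem_E_O {g : V ≃ₗ[F] V} (hg : g ∈ ⁅O Q, O Q⁆) : g ∈ O Q := by
  have h : ⁅O Q, O Q⁆ ≤ O Q := by
    rw [Subgroup.commutator_le]
    intro a ha b hb
    exact (O Q).mul_mem ((O Q).mul_mem ((O Q).mul_mem ha hb) ((O Q).inv_mem ha)) ((O Q).inv_mem hb)
  exact h hg

theorem DP.finrank_V [FiniteDimensional F V] {W W' : Submodule F V} (h : DP Q W W') :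
    finrank F V = 2 * finrank F W + finrank F (mids Q W W') := by
  let Ψ : (W × W') × mids Q W W' →ₗ[F] V :=
    LinearMap.coprod (LinearMap.coprod W.subtype W'.subtype) (mids Q W W').subtype
  have hΨ : ∀ x, Ψ x = (x.1.1 : V) + x.1.2 + x.2 := fun x => rfl
  have hΨb : Function.Bijective Ψ := by
    constructor
    · rw [← LinearMap.ker_eq_bot, LinearMap.ker_eq_bot']
      rintro ⟨⟨w, x⟩, m⟩ h0
      rw [hΨ] at h0
      simp only at h0
      have hw : (w : V) = 0 := by
        refine h.nd _ w.2 (fun y hy => ?_)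
        have : polar Q ((w : V) + x + m) y = 0 := by rw [h0]; exact polar_zero_left _ _
        rw [polar_add_left, polar_add_left, h.ts'.pz x.2 hy, polar_comm Q (m : V), m.2.2 y hy] at this
        simpa using this
      have hx : (x : V) = 0 := by
        refine h.nd' _ x.2 (fun y hy => ?_)
        have : polar Q y ((w : V) + x + m) = 0 := by rw [h0]; exact polar_zero_right _ _
        rw [polar_add_right, polar_add_right, h.ts.pz hy w.2, m.2.1 y hy] at this
        simpa using this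
      have hm : (m : V) = 0 := by
        rw [hw, hx] at h0
        simpa using h0
      exact Prod.ext (Prod.ext (Subtype.ext hw) (Subtype.ext hx)) (Subtype.ext hm)
    · intro v
      refine ⟨((h.pr v, h.symm.pr v), ⟨h.mid v, h.mid_mem v⟩), ?_⟩
      rw [hΨ]
      simp only
      nth_rewrite 4 [h.decomp v]
      abel
  have h1 := (LinearEquiv.ofBijective Ψ hΨb).finrank_eq
  rw [finrank_prod, finrank_prod, ← h.finrank_eq] at h1
  omega

/-- **Parity.** -/
theorem Adapted.even_finrank [FiniteDimensional F V] (hQ : Nondeg Q) {g : V ≃ₗ[F] V}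
    {W W' H W₁ : Submodule F V} (h : Adapted Q g W W' H W₁) (hHW : H ⊓ W₁ = ⊥)
    (hg : g ∈ ⁅O Q, O Q⁆) : Even (finrank F W₁ + finrank F (LinearMap.range h.dlt)) := by
  classical
  set M := mids Q W W' with hM
  -- `W + Δ`
  let Δ : (W × M) →ₗ[F] (V × M) :=
    (LinearMap.coprod W.subtype M.subtype).prod (LinearMap.snd F W M)
  have hΔ : ∀ x : W × M, Δ x = ((x.1 : V) + x.2, x.2) := fun x => rfl
  have hΔi : Function.Injective Δ := by
    rw [← LinearMap.ker_eq_bot, LinearMap.ker_eq_bot']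
    rintro ⟨w, m⟩ h0
    rw [hΔ] at h0
    have h1 : m = 0 := congrArg Prod.snd h0
    have h2 : (w : V) + m = 0 := congrArg Prod.fst h0
    rw [h1] at h2
    have h3 : (w : V) = 0 := by simpa using h2
    exact Prod.ext (Subtype.ext h3) h1
  set X := LinearMap.range Δ with hX
  have hXf : finrank F X = finrank F W + finrank F M := by
    rw [hX, LinearMap.finrank_range_of_inj hΔi, finrank_prod]
  have hXs : ∀ x ∈ X, dbl Q M x = 0 := by
    rintro _ ⟨⟨w, m⟩, rfl⟩
    rw [hΔ, dbl_apply, Q_add, h.dp.ts _ w.2, m.2.1 _ w.2]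
    ring
  have hmemX : ∀ (v : V) (m : M), (v, m) ∈ X ↔ v - m ∈ W := by
    intro v m
    constructor
    · rintro ⟨⟨w, m'⟩, hw⟩
      rw [hΔ] at hw
      have h1 : m' = m := congrArg Prod.snd hw
      have h2 : (w : V) + m' = v := congrArg Prod.fst hw
      rw [← h2, h1, add_sub_cancel_right]
      exact w.2
    · intro hv
      refine ⟨(⟨v - m, hv⟩, m), ?_⟩
      rw [hΔ]
      simp
  -- dimensions
  have hVf : finrank F V = 2 * finrank F W + finrank F M := h.dp.finrank_V
  have hdim : finrank F (V × M) = 2 * finrank F X := by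
    rw [finrank_prod, hXf, hVf]
    ring
  have key := Cfsg.Agent.H884.OmegaGL.even_finrank_inf_map (nondeg_dbl hQ h.dp) hXs hdim (ext1_mem M hg)
  -- the intersection
  set Y := X ⊓ X.map (ext1 M g).toLinearMap with hY
  have hYmem : ∀ (v : V) (m : M), (v, m) ∈ Y ↔ v - m ∈ W ∧ v - g m ∈ W.map g.toLinearMap := by
    intro v m
    rw [hY, Submodule.mem_inf, hmemX]
    refine and_congr_right (fun _ => ?_)
    constructor
    · rintro ⟨⟨v', m'⟩, hx, hx'⟩
      rw [SetLike.mem_coe, hmemX] at hx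
      have h1 : ext1 M g (v', m') = (v, m) := hx'
      rw [ext1_apply] at h1
      have h2 : m' = m := congrArg Prod.snd h1
      have h3 : g v' = v := congrArg Prod.fst h1
      refine ⟨v' - m', hx, ?_⟩
      show g (v' - m') = _
      rw [map_sub, h3, h2]
    · rintro ⟨w, hw, hw'⟩
      have h1 : g w = v - g m := hw'
      refine ⟨(w + m, m), ?_, ?_⟩
      · rw [SetLike.mem_coe, hmemX, add_sub_cancel_right]; exact hw
      · show ext1 M g (w + m, m) = _
        rw [ext1_apply]
        simp only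
        rw [map_add, h1, sub_add_cancel]
  let π : Y →ₗ[F] M := LinearMap.snd F V M ∘ₗ Y.subtype
  have hπ : ∀ y : Y, π y = (y : V × M).2 := fun y => rfl
  -- characterisation of the range
  have hrange : LinearMap.range π = LinearMap.ker h.dlt := by
    ext m
    rw [LinearMap.mem_range, LinearMap.mem_ker]
    constructor
    · rintro ⟨⟨⟨v, m'⟩, hy⟩, hm⟩
      have hm' : m' = m := hm
      subst hm'
      rw [hYmem] at hy
      obtain ⟨h1, h2⟩ := hy
      -- `g m - m ∈ W + g W`
      have h3 := h.sub_mid_mem m'.2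
      have h4 : h.dlt m' = (v - m') - ((v - g m') + (g m' - h.dp.mid (g m'))) := by
        rw [h.dlt_apply]; abel
      refine Subtype.ext_iff.1 (?_ : (⟨h.dlt m', h.dlt_mem m'⟩ : M) = 0)
      apply Subtype.ext
      refine h.dp.mids_nondeg hQ (h.dlt_mem m') (fun n hn => ?_)
      show polar Q (h.dlt m') n = 0
      rw [h4, polar_sub_left]
      have h5 : polar Q (v - (m' : V)) n = 0 := hn.1 _ h1
      obtain ⟨w, hw, hw'⟩ := Submodule.add_mem _ h2 h3
      have h6 : polar Q ((v - g m') + (g m' - h.dp.mid (g m'))) n = 0 := by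
        rw [← hw']
        exact h.mid_perp hn hw
      rw [h5, h6, sub_zero]
    · intro hm
      refine ⟨⟨((m : V), m), ?_⟩, rfl⟩
      rw [hYmem, sub_self]
      refine ⟨W.zero_mem, ?_⟩
      have h3 := h.sub_mid_mem m.2
      rw [h.dlt_apply, sub_eq_zero] at hm
      rw [hm] at h3
      have := Submodule.neg_mem _ h3
      rwa [neg_sub] at this
  -- the kernel
  let κ : H →ₗ[F] Y := LinearMap.codRestrict Y (LinearMap.inl F V M ∘ₗ g.toLinearMap ∘ₗ H.subtype) (by
    intro x
    show (g (x : V), (0 : M)) ∈ Y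
    rw [hYmem]
    simp only [Submodule.coe_zero, map_zero, sub_zero]
    exact ⟨h.gH _ x.2, ⟨x, h.HW x.2, rfl⟩⟩)
  have hκ : ∀ x : H, (κ x : V × M) = (g (x : V), 0) := fun x => rfl
  have hκi : Function.Injective κ := by
    intro a b hab
    have h1 : (κ a : V × M) = κ b := congrArg Subtype.val hab
    rw [hκ, hκ] at h1
    exact Subtype.ext (g.injective (congrArg Prod.fst h1))
  have hker : LinearMap.ker π = LinearMap.range κ := by
    ext y
    rw [LinearMap.mem_ker, LinearMap.mem_range]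
    constructor
    · intro hy
      obtain ⟨⟨v, m⟩, hvm⟩ := y
      have hm : m = 0 := hy
      subst hm
      have h1 := (hYmem v 0).1 hvm
      simp only [Submodule.coe_zero, map_zero, sub_zero] at h1
      obtain ⟨h2, w, hw, hw'⟩ := h1
      have hw'' : g w = v := hw'
      refine ⟨⟨w, h.mem_H hw (by rw [hw'']; exact h2)⟩, ?_⟩
      apply Subtype.ext
      rw [hκ]
      exact Prod.ext hw'' rfl
    · rintro ⟨x, rfl⟩
      rfl
  have hrn := LinearMap.finrank_range_add_finrank_ker π
  rw [hrange, hker, LinearMap.finrank_range_of_inj hκi] at hrn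
  have hrn2 : finrank F (LinearMap.range h.dlt) + finrank F (LinearMap.ker h.dlt) = finrank F M :=
    LinearMap.finrank_range_add_finrank_ker h.dlt
  have hW : finrank F W = finrank F H + finrank F W₁ := by
    have h1 := Submodule.finrank_sup_add_finrank_inf_eq H W₁
    rw [h.sup, hHW, finrank_bot, add_zero] at h1
    exact h1
  have e1 : finrank F Y = finrank F (LinearMap.ker h.dlt) + finrank F H := hrn.symm
  have e2 : finrank F X = finrank F H + finrank F W₁ + (finrank F (LinearMap.range h.dlt) +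
      finrank F (LinearMap.ker h.dlt)) := by
    rw [hXf, hW]
    exact congrArg _ hrn2.symm
  have key' : Even (finrank F Y + finrank F X) := key
  rw [e1, e2] at key'
  rw [Nat.even_iff] at key' ⊢
  omega

end Cfsg.Agent.H434.Corn
end

-- part: H434/CornMain
section
/-!
# Corners of isometries VI: the base corner theorem (helper434)

`baseCorner` : a non-scalar `g ∈ [O Q, O Q]` has, if the maximal totally singular subspaces have dimension `m ≥ 3`,
a frame of length `m` with Schur complement `1` and corner `A`, `det A = 1`, `A = 1` or (`A` not scalar and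
`rank (A - 1) ≥ 2`).
-/

set_option autoImplicit false

namespace Cfsg.Agent.H434.Corn

open Module QuadraticMap Cfsg.Agent.LieClassical.OrthCore Cfsg.Agent.LieClassical.OrthTrans
open Cfsg.Agent.H140.OreO (Frame SchurOne BaseCorner)

variable {F V : Type*} [Field F] [AddCommGroup V] [Module F V] {Q : QuadraticForm F V}

theorem sum_repr_coe {W : Submodule F V} {n : ℕ} (b : Basis (Fin n) F W) {w : V} (hw : w ∈ W) :
    ∑ i, b.repr ⟨w, hw⟩ i • (b i : V) = w := by
  have h := congrArg W.subtype (b.sum_repr ⟨w, hw⟩)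
  rw [map_sum] at h
  simpa only [map_smul, Submodule.subtype_apply] using h

/-- The frame of a partner. -/
theorem Partner.exists_frame [FiniteDimensional F V] {g : V ≃ₗ[F] V} {W W' : Submodule F V} {A : W →ₗ[F] W}
    (P : Partner Q g W W' A) {m : ℕ} (hm : finrank F W = m) :
    ∃ (w w' : Fin m → V) (b : Basis (Fin m) F W), Frame Q w w' ∧ SchurOne Q g w w' ∧
      H140.OreO.corner Q g w w' = LinearMap.toMatrix b b A := by
  classical
  subst hm
  let b := Module.finBasis F W
  let b' : Basis (Fin (finrank F W)) F W' := b.dualBasis.map P.dp.symm.equiv.symm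
  have hb' : ∀ (i : Fin (finrank F W)) (w : W), polar Q (b' i : V) (w : V) = b.coord i w := by
    intro i w
    have h1 : b' i = P.dp.symm.equiv.symm (b.dualBasis i) := Basis.map_apply _ _ _
    rw [h1, P.dp.symm.equiv_symm, Basis.coe_dualBasis]
  have hbb : ∀ i (w : W), polar Q (w : V) (b' i : V) = b.coord i w := by
    intro i w
    rw [polar_comm, hb']
  refine ⟨fun i => b i, fun i => b' i, b, ?_, ?_, ?_⟩
  · refine ⟨fun i => P.dp.ts _ (b i).2, fun i => P.dp.ts' _ (b' i).2, fun i j => P.dp.ts.pz (b i).2 (b j).2,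
      fun i j => P.dp.ts'.pz (b' i).2 (b' j).2, fun i j => ?_⟩
    rw [hbb, Basis.coord_apply, Basis.repr_self, Finsupp.single_apply]
  · intro v hv
    have hvW : v ∈ perp Q W := by
      intro w hw
      have h2 : w = ∑ i, b.repr ⟨w, hw⟩ i • (b i : V) := (sum_repr_coe b hw).symm
      rw [h2, ← polarBilin_apply_apply, map_sum, LinearMap.sum_apply]
      refine Finset.sum_eq_zero (fun i _ => ?_)
      rw [map_smul, LinearMap.smul_apply, polarBilin_apply_apply, (hv i).1, smul_zero]
    have hvW' : v ∈ perp Q W' := by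
      intro w hw
      have h2 : w = ∑ i, b'.repr ⟨w, hw⟩ i • (b' i : V) := (sum_repr_coe b' hw).symm
      rw [h2, ← polarBilin_apply_apply, map_sum, LinearMap.sum_apply]
      refine Finset.sum_eq_zero (fun i _ => ?_)
      rw [map_smul, LinearMap.smul_apply, polarBilin_apply_apply, (hv i).2, smul_zero]
    obtain ⟨w, hw, hgw⟩ := P.mid v ⟨hvW, hvW'⟩
    refine ⟨b.repr ⟨w, hw⟩, b'.repr ⟨g (v + w) - v, hgw⟩, ?_⟩
    rw [sum_repr_coe b hw, sum_repr_coe b' hgw]
    abel
  · ext i j
    rw [H140.OreO.corner_apply, P.corner (b j) _ (b' i).2, hbb, LinearMap.toMatrix_apply]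
    rfl

theorem GoodC.toCorner {W : Submodule F V} [FiniteDimensional F V] {A : W →ₗ[F] W} (h : GoodC A) {m : ℕ}
    (b : Basis (Fin m) F W) :
    LinearMap.toMatrix b b A = 1 ∨ ((∀ c : F, LinearMap.toMatrix b b A ≠ c • (1 : Matrix (Fin m) (Fin m) F)) ∧
      2 ≤ (LinearMap.toMatrix b b A - 1).rank) := by
  rcases h with h | ⟨h1, h2⟩
  · left
    rw [h, LinearMap.toMatrix_id]
  · right
    refine ⟨fun c hc => h1 c ?_, ?_⟩
    · apply (LinearMap.toMatrix b b).injective
      rw [hc, map_smul, LinearMap.toMatrix_id]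
    · have e : LinearMap.toMatrix b b A - 1 = LinearMap.toMatrix b b (A - LinearMap.id) := by
        rw [map_sub, LinearMap.toMatrix_id]
      rw [e, Matrix.rank_eq_finrank_range_toLin _ b b, Matrix.toLin_toMatrix]
      exact h2

theorem isSquare_corner [Finite F] [FiniteDimensional F V] (hQ : Nondeg Q) {n : ℕ}
    {w w' : Fin n → V} (hf : Frame Q w w') {g : V ≃ₗ[F] V} (hg : g ∈ ⁅O Q, O Q⁆)
    (hs : SchurOne Q g w w') : IsSquare (H140.OreO.corner Q g w w').det := by
  by_cases h2 : (2 : F) = 0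
  · have : CharP F 2 := CharTwo.of_one_ne_zero_of_two_eq_zero one_ne_zero h2
    exact FiniteField.isSquare_of_char_two (ringChar.eq F 2) _
  · exact H141.SpinFacts.isSquare_det_corner h2 hQ hf hg hs

/-- **The base corner theorem.** -/
theorem baseCorner [Finite F] [FiniteDimensional F V] (hQ : Nondeg Q) {g : V ≃ₗ[F] V}
    (hg : g ∈ ⁅O Q, O Q⁆) (hs : ∀ c : F, ∃ v, g v ≠ c • v) {m : ℕ} (hm : 3 ≤ m)
    (hWm : ∀ W, MaxTS Q W → finrank F W = m) : BaseCorner m Q g := by
  classical
  have hgO : g ∈ O Q := mem_E_O hg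
  obtain ⟨W, hW, ⟨w₀, hw₀, hw₀'⟩, w₁, hw₁, hw₁0, hw₁'⟩ := exists_moved hQ hgO hs
    (fun W hW => by rw [hWm W hW]; exact hm)
  obtain ⟨W', H, W₁, h, hHW, hmem⟩ := exists_adapted hQ hgO hW
  have heven := h.even_finrank hQ hHW hg
  -- `W₁ ≠ 0`
  have hW₁ne : ∃ w ∈ W₁, w ≠ 0 := by
    obtain ⟨a, ha, b, hb, hab⟩ := h.split hw₀
    refine ⟨b, hb, ?_⟩
    rintro rfl
    rw [add_zero] at hab
    rw [hab] at hw₀'
    exact hw₀' (h.gH a ha)
  have hd : 1 ≤ finrank F W₁ := by
    obtain ⟨w, hw, hw0⟩ := hW₁ne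
    rw [Nat.one_le_iff_ne_zero, Ne, Submodule.finrank_eq_zero]
    intro h0
    rw [h0, Submodule.mem_bot] at hw
    exact hw0 hw
  -- the middle space has dimension at most `2`
  have hM2 : finrank F (mids Q W W') ≤ 2 := by
    by_contra hcon
    push Not at hcon
    obtain ⟨x, hx, hx0, hxs⟩ := Cfsg.Agent.LieClassical.OrthFinite.exists_sing_mem (Q := Q) (mids Q W W') (by omega)
    exact hx0 (h.dp.anis hW hx hxs)
  have he : finrank F (LinearMap.range h.dlt) ≤ 2 := (LinearMap.finrank_range_le _).trans hM2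
  obtain ⟨l, hl⟩ : ∃ l, finrank F W₁ = finrank F (LinearMap.range h.dlt) + (l + l) := by
    rw [Nat.even_iff] at heven
    refine ⟨(finrank F W₁ - finrank F (LinearMap.range h.dlt)) / 2, ?_⟩
    omega
  obtain ⟨A, t, D, hA⟩ := h.exists_datum hl
  obtain ⟨W'', P⟩ := exists_partner_of_datum h D
  obtain ⟨w, w', b, hf, hS, hc⟩ := P.exists_frame (hWm W hW)
  have hsq := isSquare_corner hQ hf hg hS
  rw [hc, LinearMap.det_toMatrix] at hsq
  obtain ⟨s, hs'⟩ := hsq
  have hdetA : LinearMap.det A ≠ 0 := by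
    have h1 : IsUnit (LinearMap.det A) := by
      rw [← LinearMap.isUnit_iff_isUnit_det, Module.End.isUnit_iff]
      exact ⟨hA, LinearMap.injective_iff_surjective.1 hA⟩
    exact h1.ne_zero
  have hs0 : s ≠ 0 := by
    rintro rfl
    rw [mul_zero] at hs'
    exact hdetA hs'
  obtain ⟨A', t', D', hA'⟩ := h.exists_scale hW₁ne D (inv_ne_zero hs0)
  have hdet' : LinearMap.det A' = 1 := by
    rw [hA', hs']
    field_simp
  -- adjust the rank
  have hH0 : H.comap W.subtype ≠ ⊥ := by
    intro h0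
    have h1 : (⟨w₁, hw₁⟩ : W) ∈ H.comap W.subtype := h.mem_H hw₁ hw₁'
    rw [h0, Submodule.mem_bot] at h1
    exact hw₁0 (congrArg Subtype.val h1)
  have hH1 : H.comap W.subtype ≠ ⊤ := by
    intro h0
    have h1 : (⟨w₀, hw₀⟩ : W) ∈ H.comap W.subtype := by rw [h0]; trivial
    exact hw₀' (h.gH w₀ h1)
  obtain ⟨φ, hφ1, hφ2, hφ3, hφ4⟩ := rank_adjust hH0 hH1 hdet'
  have D'' := D'.add h.dp.ts hgO (φ := φ) (fun w hw => hφ1 w (h.mem_H w.2 hw)) (fun w => by
    obtain ⟨x, hx, hxe⟩ := hφ2 w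
    rw [← hxe, D'.fixA x (h.gH _ hx)]
    exact ⟨x, x.2, rfl⟩)
  obtain ⟨W''', P'⟩ := exists_partner_of_datum h D''
  obtain ⟨w, w', b, hf, hS, hc⟩ := P'.exists_frame (hWm W hW)
  refine ⟨w, w', hf, hS, ?_, ?_⟩
  · rw [hc, LinearMap.det_toMatrix, hφ3]
  · rw [hc]
    exact hφ4.toCorner b

/-- The dimension of the maximal totally singular subspaces. -/
theorem MaxTS.bounds [Finite F] [FiniteDimensional F V] (hQ : Nondeg Q) {W : Submodule F V}
    (hW : MaxTS Q W) : 2 * finrank F W ≤ finrank F V ∧ finrank F V ≤ 2 * finrank F W + 2 := by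
  obtain ⟨W', -, hdp⟩ := exists_partner hQ hW.ts (X := ⊥) (fun x hx => by
    rw [(Submodule.mem_bot F).1 hx, QuadraticMap.map_zero]) (fun x hx _ => (Submodule.mem_bot F).1 hx)
  have h1 := hdp.finrank_V
  have hM2 : finrank F (mids Q W W') ≤ 2 := by
    by_contra hcon
    push Not at hcon
    obtain ⟨x, hx, hx0, hxs⟩ := Cfsg.Agent.LieClassical.OrthFinite.exists_sing_mem (Q := Q) (mids Q W W')
      (by omega)
    exact hx0 (hdp.anis hW hx hxs)
  omega

/-- **The base corner theorem**, without knowledge of the Witt index. -/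
theorem exists_baseCorner [Finite F] [FiniteDimensional F V] (hQ : Nondeg Q) (hN : 7 ≤ finrank F V)
    {g : V ≃ₗ[F] V} (hg : g ∈ ⁅O Q, O Q⁆) (hs : ∀ c : F, ∃ v, g v ≠ c • v) :
    ∃ m, 3 ≤ m ∧ 2 * m ≤ finrank F V ∧ finrank F V ≤ 2 * m + 2 ∧ BaseCorner m Q g := by
  obtain ⟨W, -, hW⟩ := exists_maxTS (Q := Q) (T := (⊥ : Submodule F V)) (fun x hx => by
    rw [(Submodule.mem_bot F).1 hx, QuadraticMap.map_zero])
  have h1 := hW.bounds hQ
  refine ⟨finrank F W, by omega, h1.1, h1.2, baseCorner hQ hg hs (by omega) (fun U hU => ?_)⟩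
  exact hW.finrank_eq hU

end Cfsg.Agent.H434.Corn
end
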