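import Mathlib
import Cfsg.Agent.LieClassical.OrthForms
import Cfsg.Agent.LieClassical.OrthFinite
set_option linter.all false

/-!
# The matrix bridge for S2447, S2448, S2449 (helper434)

`ore_of_abstract` : if every element of `[O Q, O Q]` is a commutator of elements of `[O Q, O Q]`, the same holds in
`Cfsg.Omega F Q`.
-/

set_option autoImplicit false

namespace Cfsg.Agent.H434.OreBridge

open Module QuadraticMap Cfsg.Agent.LieClassical.OrthCore Cfsg.Agent.LieClassical.OrthTrans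
  Cfsg.Agent.LieClassical.OrthFinite Cfsg.Agent.LieClassical.OrthForms

/-- Every element of `[O Q, O Q]` is a commutator of two elements of `[O Q, O Q]`. -/
def AllComm {F V : Type*} [Field F] [AddCommGroup V] [Module F V] (Q : QuadraticForm F V) : Prop :=
  ∀ g ∈ ⁅O Q, O Q⁆, ∃ x ∈ ⁅O Q, O Q⁆, ∃ y ∈ ⁅O Q, O Q⁆, g = x * y * x⁻¹ * y⁻¹

theorem ore_of_abstract {ι : Type} [Fintype ι] [DecidableEq ι] {F : Type*} [Field F]
    (Q : QuadraticForm F (ι → F)) (h : AllComm Q) (g : Cfsg.Omega F ⇑Q) :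
    ∃ a b : Cfsg.Omega F ⇑Q, g = a * b * a⁻¹ * b⁻¹ := by
  obtain ⟨x, hx, y, hy, hxy⟩ := h _ (omegaEquiv Q g).2
  refine ⟨(omegaEquiv Q).symm ⟨x, hx⟩, (omegaEquiv Q).symm ⟨y, hy⟩, ?_⟩
  apply (omegaEquiv Q).injective
  rw [map_mul, map_mul, map_mul, map_inv, map_inv, MulEquiv.apply_symm_apply, MulEquiv.apply_symm_apply]
  exact Subtype.ext hxy

theorem ore_odd {F : Type*} [Field F] [Fintype F] (hodd : Odd (Fintype.card F)) (n : ℕ)
    (H : ∀ Q : QuadraticForm F (Unit ⊕ (Fin n ⊕ Fin n) → F), Nondeg Q →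
      finrank F (Unit ⊕ (Fin n ⊕ Fin n) → F) = 2 * n + 1 → AllComm Q)
    (g : Cfsg.Omega F (Cfsg.quadFormOdd n F)) :
    ∃ a b : Cfsg.Omega F (Cfsg.quadFormOdd n F), g = a * b * a⁻¹ * b⁻¹ := by
  have h2 : (2 : F) ≠ 0 := by
    intro h0
    have : CharP F 2 := CharTwo.of_one_ne_zero_of_two_eq_zero one_ne_zero h0
    have h3 := (FiniteField.even_card_iff_char_two (F := F)).1 (ringChar.eq F 2)
    rw [Nat.odd_iff] at hodd
    omega
  have h4 := H (oddForm n F) (nondeg_oddForm n F h2) (by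
    rw [Module.finrank_fintype_fun_eq_card]; simp; ring)
  have h5 := ore_of_abstract (oddForm n F) h4
  rw [coe_oddForm] at h5
  exact h5 g

theorem ore_plus {F : Type*} [Field F] [Fintype F] (n : ℕ)
    (H : ∀ Q : QuadraticForm F (Fin n ⊕ Fin n → F), Nondeg Q →
      finrank F (Fin n ⊕ Fin n → F) = 2 * n → AllComm Q)
    (g : Cfsg.Omega F (Cfsg.quadFormPlus n F)) :
    ∃ a b : Cfsg.Omega F (Cfsg.quadFormPlus n F), g = a * b * a⁻¹ * b⁻¹ := by
  have h4 := H (plusForm n F) (nondeg_plusForm n F) (by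
    rw [Module.finrank_fintype_fun_eq_card]; simp; ring)
  have h5 := ore_of_abstract (plusForm n F) h4
  rw [coe_plusForm] at h5
  exact h5 g

theorem ore_minus {F : Type*} [Field F] [Fintype F] (n : ℕ) (hn : 1 ≤ n) (a b : F)
    (hab : ∀ z₁ z₂ : F, z₁ ^ 2 + a * z₁ * z₂ + b * z₂ ^ 2 = 0 → z₁ = 0 ∧ z₂ = 0)
    (H : ∀ Q : QuadraticForm F ((Fin (n - 1) ⊕ Fin (n - 1)) ⊕ Fin 2 → F), Nondeg Q →
      finrank F ((Fin (n - 1) ⊕ Fin (n - 1)) ⊕ Fin 2 → F) = 2 * n → AllComm Q)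
    (g : Cfsg.Omega F (Cfsg.quadFormMinus (n - 1) F a b)) :
    ∃ x y : Cfsg.Omega F (Cfsg.quadFormMinus (n - 1) F a b), g = x * y * x⁻¹ * y⁻¹ := by
  have h4 := H (minusForm (n - 1) F a b) (nondeg_minusForm (n - 1) F a b hab) (by
    rw [Module.finrank_fintype_fun_eq_card]; simp; omega)
  have h5 := ore_of_abstract (minusForm (n - 1) F a b) h4
  rw [coe_minusForm] at h5
  exact h5 g

end Cfsg.Agent.H434.OreBridge
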