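import Cfsg.Agent.Phan.Cover
set_option linter.all false

/-!
# Extending homomorphisms: a version of `Ctx.Hyp.exists_hom` for graphs of diameter two

`Same w u u'` : the lifts of `w` through the neighbours `u`, `u'` of the base point agree.
`exists_hom_of_same` : if all triangles lift, every `w` has a common neighbour with the base point, every edge `w w'` has one,
and the lifts of `w` through the common neighbours of `w` and the base point agree, then the homomorphisms extend.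
-/

set_option autoImplicit false

namespace Cfsg.Agent.H434.Cover2

open Cfsg.Agent.Phan.Cover

variable {M H Ω K A : Type*} [Group M] [Group H] [Group K] [Group A] [MulAction M Ω]

/-- the lifts of `w` through `u` and `u'` agree -/
def Same (C : Ctx M H Ω K A) (w u u' : Ω) : Prop :=
  ∀ x y y' : M × H, x.1 • C.p = w → y.1 • C.p = u → y'.1 • C.p = u' → C.E y → C.E y' →
    C.E (y⁻¹ * x) → C.E (y'⁻¹ * x)

variable {C : Ctx M H Ω K A}

theorem same_refl (h : C.Hyp) (w u : Ω) : Same C w u u := by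
  intro x y y' hx hy hy' ey ey' exy
  obtain ⟨k, hk⟩ := h.lift_uniq (x := 1) (y := y) (z := y') (by rwa [inv_one, one_mul])
    (by rwa [inv_one, one_mul]) (by rw [hy, hy'])
  have : y'⁻¹ * x = C.kh k⁻¹ * (y⁻¹ * x) := by
    rw [hk, Ctx.kh_inv]; group
  rw [this]
  exact Ctx.E_left _ exy

theorem same_of_adj (h : C.Hyp)
    (htri : ∀ u v w : Ω, C.adj u v → C.adj u w → C.adj v w → C.Tri u v w) {w u u' : Ω}
    (hu : C.adj C.p u) (hu' : C.adj C.p u') (huw : C.adj u w) (hu'w : C.adj u' w)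
    (huu : C.adj u u') : Same C w u u' := by
  intro x y y' hx hy hy' ey ey' exy
  have hp : C.p = (1 : M × H).1 • C.p := by rw [Prod.fst_one, one_smul]
  have e1 : C.E (y⁻¹ * y') := by
    refine h.close (x := 1) ?_ (by rwa [inv_one, one_mul]) (by rwa [inv_one, one_mul])
    rw [← hp, hy, hy']
    exact htri _ _ _ hu hu' huu
  refine h.close (x := y) ?_ e1 exy
  rw [hy, hy', hx]
  exact htri _ _ _ huu huw hu'w

theorem same_trans (h : C.Hyp) {w u u' u'' : Ω} (hu' : C.adj C.p u')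
    (h1 : Same C w u u') (h2 : Same C w u' u'') : Same C w u u'' := by
  intro x y y'' hx hy hy'' ey ey'' exy
  have hp : C.p = (1 : M × H).1 • C.p := by rw [Prod.fst_one, one_smul]
  obtain ⟨y', hy', ey'⟩ := h.exists_lift (1 : M × H) (v := u') (by rw [← hp]; exact hu')
  rw [inv_one, one_mul] at ey'
  exact h2 x y' y'' hx hy' hy'' ey' ey'' (h1 x y y' hx hy hy' ey ey' exy)

theorem same_of_path (h : C.Hyp)
    (htri : ∀ u v w : Ω, C.adj u v → C.adj u w → C.adj v w → C.Tri u v w) {w u u' : Ω}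
    (hu : C.adj C.p u) (huw : C.adj u w)
    (hpath : Relation.ReflTransGen (fun a b => C.adj a b ∧ C.adj C.p b ∧ C.adj b w) u u') :
    Same C w u u' ∧ C.adj C.p u' ∧ C.adj u' w := by
  induction hpath with
  | refl => exact ⟨same_refl h w u, hu, huw⟩
  | tail _ hb ih =>
    obtain ⟨i1, i2, i3⟩ := ih
    obtain ⟨b1, b2, b3⟩ := hb
    exact ⟨same_trans h i2 i1 (same_of_adj h htri i2 b2 i3 b3 b1), b2, b3⟩

/-- The base point stabiliser and the line elements generate. -/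
theorem closure_eq_top (h : C.Hyp)
    (hD : ∀ w : Ω, ∃ u, C.adj C.p u ∧ C.adj u w) :
    Subgroup.closure ({m | ∃ k, C.ι k = m} ∪ {m | ∃ a, C.adj C.p (C.κ a • C.p) ∧ C.κ a = m}) =
      (⊤ : Subgroup M) := by
  set D := Subgroup.closure ({m | ∃ k, C.ι k = m} ∪ {m | ∃ a, C.adj C.p (C.κ a • C.p) ∧ C.κ a = m})
    with hD'
  have hK : ∀ k, C.ι k ∈ D := fun k => Subgroup.subset_closure (Or.inl ⟨k, rfl⟩)
  have hnb : ∀ w, C.adj C.p w → ∃ d ∈ D, d • C.p = w := by
    intro w hw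
    obtain ⟨k, a, e⟩ := h.nbr w hw
    refine ⟨C.ι k * C.κ a, D.mul_mem (hK k) (Subgroup.subset_closure (Or.inr ⟨a, ?_, rfl⟩)), ?_⟩
    · rw [← e] at hw
      have := h.inv (C.ι k)⁻¹ hw
      rwa [inv_smul_smul, ← map_inv, h.fix] at this
    · rw [mul_smul, e]
  rw [eq_top_iff]
  intro m _
  obtain ⟨x, hx1, hx2⟩ := hD (m • C.p)
  obtain ⟨d, hd, e1⟩ := hnb x hx1
  have h2 := h.inv d⁻¹ hx2
  rw [← e1, inv_smul_smul] at h2
  obtain ⟨d', hd', e2⟩ := hnb _ h2
  have h3 : (d' ⁻¹ * d⁻¹ * m) • C.p = C.p := by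
    rw [mul_smul, mul_smul, ← e2, inv_smul_smul]
  obtain ⟨k, hk⟩ := h.stab _ h3
  have : m = d * d' * C.ι k := by rw [hk]; group
  rw [this]
  exact D.mul_mem (D.mul_mem hd hd') (hK k)

/-- **Extension of homomorphisms.** -/
theorem exists_hom_of_same (h : C.Hyp)
    (htri : ∀ u v w : Ω, C.adj u v → C.adj u w → C.adj v w → C.Tri u v w)
    (hD : ∀ w : Ω, ∃ u, C.adj C.p u ∧ C.adj u w)
    (hP : ∀ w w' : Ω, C.adj w w' → ∃ u, C.adj C.p u ∧ C.adj u w ∧ C.adj u w')
    (hQ : ∀ w u u' : Ω, C.adj C.p u → C.adj u w → C.adj C.p u' → C.adj u' w → Same C w u u') :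
    ∃ Φ : M →* H, (∀ k, Φ (C.ι k) = C.α k) ∧
      ∀ a, C.adj C.p (C.κ a • C.p) → Φ (C.κ a) = C.φ a := by
  classical
  have hp : C.p = (1 : M × H).1 • C.p := by rw [Prod.fst_one, one_smul]
  -- direct lifts of neighbours of `p`
  have hdir : ∀ u, ∃ x : M × H, C.adj C.p u → x.1 • C.p = u ∧ C.E x := by
    intro u
    by_cases hu : C.adj C.p u
    · obtain ⟨y, h1, h2⟩ := h.exists_lift (1 : M × H) (v := u) (by rw [← hp]; exact hu)
      rw [inv_one, one_mul] at h2
      exact ⟨y, fun _ => ⟨h1, h2⟩⟩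
    · exact ⟨1, fun h' => absurd h' hu⟩
  choose d hd using hdir
  -- the lift of `w` along a common neighbour of `p` and `w` is independent of the neighbour
  have hs : ∀ w, ∃ x : M × H, x.1 • C.p = w ∧
      ∀ u, C.adj C.p u → C.adj u w → C.E ((d u)⁻¹ * x) := by
    intro w
    obtain ⟨u₀, h1, h2⟩ := hD w
    obtain ⟨x, hx1, hx2⟩ := h.exists_lift (d u₀) (v := w) (by rw [(hd u₀ h1).1]; exact h2)
    refine ⟨x, hx1, ?_⟩
    intro u hu huw
    exact hQ w u₀ u h1 h2 hu huw x (d u₀) (d u) hx1 (hd u₀ h1).1 (hd u hu).1 (hd u₀ h1).2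
      (hd u hu).2 hx2
  choose s hs1 hs2 using hs
  -- the section preserves adjacency
  have hadj : ∀ w w', C.adj w w' → C.E ((s w)⁻¹ * s w') := by
    intro w w' hww
    obtain ⟨u, h1, h2, h3⟩ := hP w w' hww
    refine h.close (x := d u) ?_ (hs2 w u h1 h2) (hs2 w' u h1 h3)
    rw [(hd u h1).1, hs1, hs1]
    exact htri _ _ _ h2 h3 hww
  -- the section at `p`
  obtain ⟨k₀, hk₀⟩ : ∃ k, s C.p = C.kh k := by
    obtain ⟨u, h1, -⟩ := hD C.p
    have h2 := hs2 C.p u h1 (h.symm h1)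
    have h3 : C.E ((d u)⁻¹ * 1) := by rw [mul_one]; exact h.E_inv (hd u h1).2
    obtain ⟨k, hk⟩ := h.lift_uniq h3 h2 (by rw [← hp, hs1])
    exact ⟨k, by rw [hk, one_mul]⟩
  -- the group generated by the two graphs
  set D : Subgroup (M × H) := Subgroup.closure ({x | ∃ k, C.kh k = x} ∪
    {x | ∃ a, C.adj C.p (C.κ a • C.p) ∧ C.ah a = x}) with hD'
  have hDk : ∀ k, C.kh k ∈ D := fun k => Subgroup.subset_closure (Or.inl ⟨k, rfl⟩)
  have hDa : ∀ a, C.adj C.p (C.κ a • C.p) → C.ah a ∈ D := fun a ha =>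
    Subgroup.subset_closure (Or.inr ⟨a, ha, rfl⟩)
  have hstep : ∀ x y : M × H, (∃ k, x = s (x.1 • C.p) * C.kh k) → C.E y →
      ∃ k, x * y = s ((x * y).1 • C.p) * C.kh k := by
    rintro x y ⟨k, hk⟩ hy
    have h1 : C.E ((s (x.1 • C.p))⁻¹ * (x * y)) := by
      have : (s (x.1 • C.p))⁻¹ * (x * y) = C.kh k * y := by
        nth_rw 2 [hk]
        group
      rw [this]
      exact Ctx.E_left _ hy
    have h2 : C.adj (x.1 • C.p) ((x * y).1 • C.p) := by
      rw [Prod.fst_mul, mul_smul]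
      exact h.inv _ (h.E_adj hy)
    have h3 := hadj _ _ h2
    exact h.lift_uniq h3 h1 (by rw [hs1])
  have hall : ∀ x ∈ D, ∃ k, x = s (x.1 • C.p) * C.kh k := by
    intro x hx
    induction hx using Subgroup.closure_induction_right with
    | one =>
      refine ⟨k₀⁻¹, ?_⟩
      rw [← hp, hk₀, Ctx.kh_inv, mul_inv_cancel]
    | mul_right x _ y hy ih =>
      rcases hy with ⟨k, rfl⟩ | ⟨a, ha, rfl⟩
      · obtain ⟨l, hl⟩ := ih
        refine ⟨l * k, ?_⟩
        rw [h.fst_smul, Ctx.kh_mul, ← mul_assoc, ← hl]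
      · exact hstep x _ ih (Ctx.E_of ha)
    | mul_inv_cancel x _ y hy ih =>
      rcases hy with ⟨k, rfl⟩ | ⟨a, ha, rfl⟩
      · obtain ⟨l, hl⟩ := ih
        refine ⟨l * k⁻¹, ?_⟩
        rw [← Ctx.kh_inv, h.fst_smul, Ctx.kh_mul, ← mul_assoc, ← hl]
      · exact hstep x _ ih (h.E_inv (Ctx.E_of ha))
  -- `D` is a graph
  have hgraph : ∀ x ∈ D, x.1 = 1 → x.2 = 1 := by
    intro x hx hx1
    obtain ⟨k, hk⟩ := hall x hx
    rw [hx1, one_smul, hk₀, ← Ctx.kh_mul] at hk
    have h1 : C.ι (k₀ * k) = 1 := by rw [← hx1, hk]; rfl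
    have h2 : k₀ * k = 1 := h.inj (by rw [h1, map_one])
    rw [hk, h2, Ctx.kh_one]
    rfl
  -- `D` projects onto `M`
  have htop := closure_eq_top h hD
  have hex : ∀ m : M, ∃ c : H, (m, c) ∈ D := by
    intro m
    have h1 : m ∈ D.map (MonoidHom.fst M H) := by
      have : (⊤ : Subgroup M) ≤ D.map (MonoidHom.fst M H) := by
        rw [← htop, Subgroup.closure_le]
        rintro x (⟨k, rfl⟩ | ⟨a, ha, rfl⟩)
        · exact ⟨C.kh k, hDk k, rfl⟩
        · exact ⟨C.ah a, hDa a ha, rfl⟩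
      exact this trivial
    obtain ⟨⟨m', c⟩, hd, rfl⟩ := h1
    exact ⟨c, hd⟩
  choose f hf using hex
  have huniq : ∀ m c, (m, c) ∈ D → c = f m := by
    intro m c hmc
    have := hgraph _ (D.mul_mem (D.inv_mem (hf m)) hmc) (by simp)
    simp only [Prod.snd_mul, Prod.snd_inv] at this
    rw [inv_mul_eq_one] at this
    exact this.symm
  refine ⟨MonoidHom.mk' f ?_, ?_, ?_⟩
  · intro a b
    exact (huniq (a * b) (f a * f b) (D.mul_mem (hf a) (hf b))).symm
  · intro k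
    exact (huniq _ _ (hDk k)).symm
  · intro a ha
    exact (huniq _ _ (hDa a ha)).symm

end Cfsg.Agent.H434.Cover2
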