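import Cfsg.Agent.Phan.Main
import Cfsg.Agent.Phan.Recog
import Cfsg.Prelude.Def_PhanSystems
import Cfsg.Agent.H434.Cover2
set_option linter.all false

-- part: H434/OrthGeo
section
/-!
# The orthogonality graph on unit vectors of a Hermitian space
-/

set_option autoImplicit false

namespace Cfsg.Agent.H434

open Matrix Cfsg Cfsg.Agent.Phan
open Cfsg.Agent.LieClassical.HermBasic

variable {F : Type*} [Field F] {q : ℕ}

/-- the tail of a vector -/
def tl {n : ℕ} (v : Fin (n + 1) → F) : Fin n → F := fun j => v j.succ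

theorem cons_tl {n : ℕ} (v : Fin (n + 1) → F) : (Fin.cons (v 0) (tl v) : Fin (n + 1) → F) = v := by
  funext i
  refine Fin.cases ?_ (fun i => ?_) i
  · rw [Fin.cons_zero]
  · rw [Fin.cons_succ, tl]

omit [Field F] in
theorem tl_cons {n : ℕ} (a : F) (v : Fin n → F) :
    tl (Fin.cons a v : Fin (n + 1) → F) = v := by
  funext j
  rw [tl, Fin.cons_succ]

/-- orthogonality -/
def orth {n : ℕ} (u v : Pt n F q) : Prop := hermForm n F q u.val v.val = 0

variable [Fintype F]

theorem orth_symm (hF : Fintype.card F = q ^ 2) {n : ℕ} {u v : Pt n F q} (h : orth u v) :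
    orth v u := herm_eq_zero_swap hF h

omit [Fintype F] in
theorem orth_smul {n : ℕ} (g : SU n F q) {u v : Pt n F q} (h : orth u v) :
    orth (g • u) (g • v) := by
  rw [orth, smul_val, smul_val, mat_isom]
  exact h

omit [Fintype F] in
theorem adj_of_orth {n : ℕ} {u v : Pt n F q} (h : orth u v) : adj u v := by
  rw [adj, show hermForm n F q u.val v.val = 0 from h, zero_mul]
  exact zero_ne_one

/-- the vector `g (0, x)` -/
def lift0 (hF : Fintype.card F = q ^ 2) {n : ℕ} (g : SU (n + 1) F q) (x : Pt n F q) :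
    Pt (n + 1) F q :=
  ⟨mat g *ᵥ Fin.cons 0 x.val, by
    rw [mat_isom, herm_cons, x.norm, zero_pow_q hF, mul_zero, zero_add]⟩

theorem herm_lift0 (hF : Fintype.card F = q ^ 2) {n : ℕ} (g : SU (n + 1) F q) (x : Pt n F q)
    (w : Fin (n + 1) → F) : hermForm (n + 1) F q (lift0 hF g x).val w =
      hermForm n F q x.val (tl (mat g⁻¹ *ᵥ w)) := by
  have h1 : w = mat g *ᵥ (mat g⁻¹ *ᵥ w) := by
    rw [Matrix.mulVec_mulVec, mat_mul_inv, Matrix.one_mulVec]
  conv_lhs => rw [h1, lift0]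
  change hermForm (n + 1) F q (mat g *ᵥ Fin.cons 0 x.val) (mat g *ᵥ (mat g⁻¹ *ᵥ w)) = _
  rw [mat_isom]
  conv_lhs => rw [← cons_tl (mat g⁻¹ *ᵥ w)]
  rw [herm_cons, zero_mul, zero_add]

theorem herm_lift0_base (hF : Fintype.card F = q ^ 2) {n : ℕ} (g : SU (n + 1) F q)
    (x : Pt n F q) : orth (lift0 hF g x) (g • e0 n F q) := by
  rw [orth, herm_lift0, smul_val, Matrix.mulVec_mulVec, mat_inv_mul, Matrix.one_mulVec, e0_val',
    tl_cons, herm_zero_right hF]

/-- a unit vector orthogonal to `g e0` is of the form `g (0, x)` -/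
theorem exists_lift0 (hF : Fintype.card F = q ^ 2) {n : ℕ} (g : SU (n + 1) F q)
    (w : Pt (n + 1) F q) (h : orth w (g • e0 n F q)) : ∃ x : Pt n F q, lift0 hF g x = w := by
  have h0 : (mat g⁻¹ *ᵥ w.val) 0 = 0 := by
    have h2 : hermForm (n + 1) F q (mat g *ᵥ (mat g⁻¹ *ᵥ w.val)) (mat g *ᵥ (e0 n F q).val) = 0 := by
      rw [Matrix.mulVec_mulVec, mat_mul_inv, Matrix.one_mulVec]
      exact h
    rw [mat_isom, herm_e0_right hF] at h2
    exact h2
  have h1 : (Fin.cons 0 (tl (mat g⁻¹ *ᵥ w.val)) : Fin (n + 1) → F) = mat g⁻¹ *ᵥ w.val := by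
    rw [← h0, cons_tl]
  have hn : hermForm n F q (tl (mat g⁻¹ *ᵥ w.val)) (tl (mat g⁻¹ *ᵥ w.val)) = 1 := by
    have h2 := w.norm
    rw [← mat_isom g⁻¹, ← h1, herm_cons, zero_mul, zero_add] at h2
    exact h2
  refine ⟨⟨tl (mat g⁻¹ *ᵥ w.val), hn⟩, ?_⟩
  apply Pt.ext'
  change mat g *ᵥ Fin.cons 0 (tl (mat g⁻¹ *ᵥ w.val)) = w.val
  rw [h1, Matrix.mulVec_mulVec, mat_mul_inv, Matrix.one_mulVec]

/-- the form on tails -/
theorem herm_tl (hF : Fintype.card F = q ^ 2) {n : ℕ} (g : SU (n + 1) F q) (v w : Fin (n + 1) → F) :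
    hermForm n F q (tl (mat g⁻¹ *ᵥ v)) (tl (mat g⁻¹ *ᵥ w)) = hermForm (n + 1) F q v w -
      hermForm (n + 1) F q v (g • e0 n F q).val * hermForm (n + 1) F q (g • e0 n F q).val w := by
  have h1 : ∀ v : Fin (n + 1) → F, hermForm (n + 1) F q v (g • e0 n F q).val =
      (mat g⁻¹ *ᵥ v) 0 := by
    intro v
    rw [← herm_e0_right hF (mat g⁻¹ *ᵥ v), ← mat_isom g⁻¹ v, smul_val, Matrix.mulVec_mulVec,
      mat_inv_mul, Matrix.one_mulVec]
  have h2 : hermForm (n + 1) F q (g • e0 n F q).val w = (mat g⁻¹ *ᵥ w) 0 ^ q := by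
    rw [herm_swap hF w, h1]
  have h3 : hermForm (n + 1) F q v w = (mat g⁻¹ *ᵥ v) 0 * (mat g⁻¹ *ᵥ w) 0 ^ q +
      hermForm n F q (tl (mat g⁻¹ *ᵥ v)) (tl (mat g⁻¹ *ᵥ w)) := by
    rw [← mat_isom g⁻¹ v w, ← herm_cons, cons_tl, cons_tl]
  rw [h1, h2, h3]
  ring

/-- a nonisotropic vector and `k` others -/
theorem exists_perp_of_ne (hF : Fintype.card F = q ^ 2) {n k : ℕ}
    (ih : ∀ L : Fin k → Fin (n + 1) → F, ∃ x : Pt (n + 1) F q, ∀ i,
      hermForm (n + 1) F q x.val (L i) = 0) {r : Fin (n + 2) → F}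
    (hr : hermForm (n + 2) F q r r ≠ 0) (L : Fin k → Fin (n + 2) → F) :
    ∃ x : Pt (n + 2) F q, hermForm (n + 2) F q x.val r = 0 ∧
      ∀ i, hermForm (n + 2) F q x.val (L i) = 0 := by
  obtain ⟨μ, hμ0, hμ⟩ := exists_norm_eq_ne hF (herm_self_pow hF r) hr
  obtain ⟨g, hg⟩ := exists_su_map hF (n := n) (u := Pi.single 0 μ) (v := r) (by
    rw [herm_single_left, Pi.single_eq_same, hμ]) (by
    rw [herm_single_left, Pi.single_eq_same, hμ]; exact hr)
  obtain ⟨x, hx⟩ := ih (fun i => tl (mat g⁻¹ *ᵥ L i))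
  refine ⟨lift0 hF g x, ?_, ?_⟩
  · rw [herm_lift0, ← hg, Matrix.mulVec_mulVec, mat_inv_mul, Matrix.one_mulVec,
      single_zero_eq_cons, tl_cons, herm_zero_right hF]
  · intro i
    rw [herm_lift0]
    exact hx i

/-- **Unit vectors orthogonal to `k` vectors** in dimension at least `2 k + 1`. -/
theorem exists_perp (hF : Fintype.card F = q ^ 2) (k : ℕ) : ∀ (n : ℕ) (L : Fin k → Fin n → F),
    2 * k + 1 ≤ n → ∃ x : Pt n F q, ∀ i, hermForm n F q x.val (L i) = 0 := by
  induction k with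
  | zero =>
    intro n L hn
    obtain ⟨m, rfl⟩ : ∃ m, n = m + 1 := ⟨n - 1, by omega⟩
    exact ⟨e0 m F q, fun i => i.elim0⟩
  | succ k ih =>
    intro n L hn
    obtain ⟨m, rfl⟩ : ∃ m, n = m + 3 := ⟨n - 3, by omega⟩
    have hsplit : ∀ x : Pt (m + 3) F q, hermForm (m + 3) F q x.val (L 0) = 0 →
        (∀ i : Fin k, hermForm (m + 3) F q x.val (L i.succ) = 0) →
        ∀ i, hermForm (m + 3) F q x.val (L i) = 0 := by
      intro x h0 h1 i
      refine Fin.cases h0 (fun i => h1 i) i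
    by_cases h0 : L 0 = 0
    · obtain ⟨x, hx⟩ := ih (m + 3) (fun i => L i.succ) (by omega)
      exact ⟨x, hsplit x (by rw [h0, herm_zero_right hF]) hx⟩
    by_cases hr : hermForm (m + 3) F q (L 0) (L 0) = 0
    · obtain ⟨y, hy⟩ := exists_unit_of_isotropic hF hr h0 (one_ne_zero (α := F))
      obtain ⟨g, hg⟩ := exists_su_smul hF (e0 (m + 2) F q) y
      have h1 : hermForm (m + 2) F q (tl (mat g⁻¹ *ᵥ L 0)) (tl (mat g⁻¹ *ᵥ L 0)) ≠ 0 := by
        rw [herm_tl hF, hr, hg, hy, herm_swap hF y.val, hy, one_pow, mul_one, zero_sub]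
        exact neg_ne_zero.2 one_ne_zero
      obtain ⟨x, hx1, hx2⟩ := exists_perp_of_ne hF (fun L => ih (m + 1) L (by omega)) h1
        (fun i : Fin k => tl (mat g⁻¹ *ᵥ L i.succ))
      exact ⟨lift0 hF g x, hsplit _ (by rw [herm_lift0]; exact hx1)
        (fun i => by rw [herm_lift0]; exact hx2 i)⟩
    · obtain ⟨x, hx1, hx2⟩ := exists_perp_of_ne hF (fun L => ih (m + 2) L (by omega)) hr
        (fun i : Fin k => L i.succ)
      exact ⟨x, hsplit x hx1 hx2⟩

/-- frames for an orthonormal pair -/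
theorem exists_frame_two (hF : Fintype.card F = q ^ 2) {n : ℕ} (p u : Pt (n + 3) F q)
    (h : orth u p) : ∃ (g : SU (n + 3) F q) (g' : SU (n + 2) F q), g • e0 (n + 2) F q = p ∧
      lift0 hF g (g' • e0 (n + 1) F q) = u := by
  obtain ⟨g, hg⟩ := exists_su_smul hF (e0 (n + 2) F q) p
  obtain ⟨x, hx⟩ := exists_lift0 hF g u (by rw [hg]; exact h)
  obtain ⟨g', hg'⟩ := exists_su_smul hF (e0 (n + 1) F q) x
  exact ⟨g, g', hg, by rw [hg', hx]⟩

/-- a unit vector orthogonal to an orthonormal pair and `k` others -/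
theorem exists_perp_pair (hF : Fintype.card F = q ^ 2) {n k : ℕ} (p u : Pt (n + 3) F q)
    (h : orth u p) (L : Fin k → Fin (n + 3) → F) (hk : 2 * k + 1 ≤ n + 1) :
    ∃ x : Pt (n + 3) F q, orth x p ∧ orth x u ∧ ∀ i, hermForm (n + 3) F q x.val (L i) = 0 := by
  obtain ⟨g, g', hg, hg'⟩ := exists_frame_two hF p u h
  obtain ⟨x, hx⟩ := exists_perp hF k (n + 1) (fun i => tl (mat g'⁻¹ *ᵥ tl (mat g⁻¹ *ᵥ L i))) hk
  refine ⟨lift0 hF g (lift0 hF g' x), ?_, ?_, ?_⟩
  · rw [← hg]
    exact herm_lift0_base hF _ _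
  · rw [orth, ← hg', herm_lift0]
    change hermForm (n + 2) F q (lift0 hF g' x).val
      (tl (mat g⁻¹ *ᵥ (mat g *ᵥ Fin.cons 0 (g' • e0 (n + 1) F q).val))) = 0
    rw [Matrix.mulVec_mulVec, mat_inv_mul, Matrix.one_mulVec, tl_cons]
    exact herm_lift0_base hF _ _
  · intro i
    rw [herm_lift0, herm_lift0]
    exact hx i

theorem exists_nbr (hF : Fintype.card F = q ^ 2) {n : ℕ} (p w : Pt (n + 4) F q) :
    ∃ u : Pt (n + 4) F q, orth p u ∧ orth u w := by
  obtain ⟨x, hx1, hx2⟩ := exists_perp_of_ne hF (fun L => exists_perp hF 1 (n + 3) L (by omega))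
    (r := p.val) (by rw [p.norm]; exact one_ne_zero) (fun _ => w.val)
  exact ⟨x, orth_symm hF hx1, hx2 0⟩

theorem exists_nbr_edge (hF : Fintype.card F = q ^ 2) {n : ℕ} (p w w' : Pt (n + 5) F q)
    (h : orth w w') : ∃ u : Pt (n + 5) F q, orth p u ∧ orth u w ∧ orth u w' := by
  obtain ⟨x, hx1, hx2, hx3⟩ := exists_perp_pair hF (n := n + 2) w' w h (fun _ : Fin 1 => p.val)
    (by omega)
  exact ⟨x, orth_symm hF (hx3 0), hx2, hx1⟩

theorem exists_nbr_four (hF : Fintype.card F = q ^ 2) {n : ℕ} (p w u u' : Pt (n + 7) F q)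
    (h : orth p u) : ∃ v : Pt (n + 7) F q, orth p v ∧ orth v w ∧ orth u v ∧ orth v u' := by
  obtain ⟨x, hx1, hx2, hx3⟩ := exists_perp_pair hF (n := n + 4) p u (orth_symm hF h)
    (![w.val, u'.val] : Fin 2 → _) (by omega)
  exact ⟨x, orth_symm hF hx1, hx3 0, orth_symm hF hx2, hx3 1⟩

/-- common neighbours in dimension six -/
theorem exists_nbr_adj (hF : Fintype.card F = q ^ 2) {n : ℕ} (p w u u' : Pt (n + 6) F q)
    (hpu : orth p u) (hpu' : orth p u') (ha : adj u u') :
    ∃ v : Pt (n + 6) F q, orth p v ∧ orth v w ∧ orth u v ∧ orth v u' := by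
  obtain ⟨g, g', hg, hg'⟩ := exists_frame_two hF (n := n + 3) p u (orth_symm hF hpu)
  have huv : (tl (mat g⁻¹ *ᵥ u.val)) = (g' • e0 (n + 4) F q).val := by
    rw [← hg']
    change tl (mat g⁻¹ *ᵥ (mat g *ᵥ Fin.cons 0 (g' • e0 (n + 4) F q).val)) = _
    rw [Matrix.mulVec_mulVec, mat_inv_mul, Matrix.one_mulVec, tl_cons]
  have h1 : hermForm (n + 4) F q (tl (mat g'⁻¹ *ᵥ tl (mat g⁻¹ *ᵥ u'.val)))
      (tl (mat g'⁻¹ *ᵥ tl (mat g⁻¹ *ᵥ u'.val))) ≠ 0 := by
    rw [herm_tl hF, ← huv, herm_tl hF, herm_tl hF, herm_tl hF, hg]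
    have e1 : hermForm (n + 6) F q p.val u'.val = 0 := hpu'
    have e2 : hermForm (n + 6) F q p.val u.val = 0 := hpu
    rw [e1, e2, mul_zero, mul_zero, sub_zero, sub_zero, sub_zero, u'.norm]
    intro h0
    apply ha
    linear_combination -h0
  obtain ⟨x, hx1, hx2⟩ := exists_perp_of_ne hF (n := n + 2)
    (fun L => exists_perp hF 1 (n + 3) L (by omega)) h1
    (fun _ => tl (mat g'⁻¹ *ᵥ tl (mat g⁻¹ *ᵥ w.val)))
  refine ⟨lift0 hF g (lift0 hF g' x), ?_, ?_, ?_, ?_⟩
  · rw [← hg]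
    exact orth_symm hF (herm_lift0_base hF _ _)
  · rw [orth, herm_lift0, herm_lift0]
    exact hx2 0
  · apply orth_symm hF
    rw [orth, herm_lift0, huv]
    exact herm_lift0_base hF _ _
  · rw [orth, herm_lift0, herm_lift0]
    exact hx1

/-- a unit vector whose product with `s` does not have norm one (`q ≥ 3`) -/
theorem exists_unit_ne (hF : Fintype.card F = q ^ 2) (hq : 3 ≤ q) {n : ℕ} (s : Fin (n + 2) → F) :
    ∃ y : Pt (n + 2) F q, hermForm (n + 2) F q y.val s * hermForm (n + 2) F q y.val s ^ q ≠ 1 := by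
  classical
  by_cases h0 : s = 0
  · refine ⟨e0 (n + 1) F q, ?_⟩
    rw [h0, herm_zero_right hF, zero_mul]
    exact zero_ne_one
  by_cases hs : hermForm (n + 2) F q s s = 0
  · -- an element of norm different from `0` and `1`
    obtain ⟨γ, hγ0, hγ1⟩ : ∃ γ : F, γ ≠ 0 ∧ γ * γ ^ q ≠ 1 := by
      by_contra hcon
      push Not at hcon
      have h1 : (Finset.univ : Finset F) ⊆ insert 0 (Finset.univ.filter fun y : F => y * y ^ q = 1) := by
        intro y _
        rw [Finset.mem_insert]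
        by_cases hy : y = 0
        · exact Or.inl hy
        · exact Or.inr (Finset.mem_filter.2 ⟨Finset.mem_univ _, hcon y hy⟩)
      have h2 := Finset.card_le_card h1
      have h3 := Finset.card_insert_le (0 : F) (Finset.univ.filter fun y : F => y * y ^ q = 1)
      have h5 : (Finset.univ.filter fun y : F => y * y ^ q = 1).card = q + 1 := by
        rw [← card_norm_eq_one hF, Nat.card_eq_fintype_card, Fintype.card_subtype]
      rw [Finset.card_univ, hF] at h2
      rw [h5] at h3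
      nlinarith
    obtain ⟨y, hy⟩ := exists_unit_of_isotropic hF hs h0 hγ0
    exact ⟨y, by rw [hy]; exact hγ1⟩
  · obtain ⟨y, hy, -⟩ := exists_perp_of_ne hF (k := 0)
      (fun L => exists_perp hF 0 (n + 1) L (by omega)) hs (fun i => i.elim0)
    refine ⟨y, ?_⟩
    rw [hy, zero_mul]
    exact zero_ne_one

/-- a unit vector orthogonal to `r` whose product with `s` does not have norm one (`q ≥ 3`) -/
theorem exists_unit_ne_perp (hF : Fintype.card F = q ^ 2) (hq : 3 ≤ q) {n : ℕ}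
    (r s : Fin (n + 4) → F) :
    ∃ y : Pt (n + 4) F q, hermForm (n + 4) F q y.val r = 0 ∧
      hermForm (n + 4) F q y.val s * hermForm (n + 4) F q y.val s ^ q ≠ 1 := by
  by_cases h0 : r = 0
  · obtain ⟨y, hy⟩ := exists_unit_ne hF hq (n := n + 2) s
    exact ⟨y, by rw [h0, herm_zero_right hF], hy⟩
  -- the nonisotropic case
  have key : ∀ (m : ℕ) (r s : Fin (m + 3) → F), hermForm (m + 3) F q r r ≠ 0 →
      ∃ y : Pt (m + 3) F q, hermForm (m + 3) F q y.val r = 0 ∧
      hermForm (m + 3) F q y.val s * hermForm (m + 3) F q y.val s ^ q ≠ 1 := by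
    intro m r s hr
    obtain ⟨μ, hμ0, hμ⟩ := exists_norm_eq_ne hF (herm_self_pow hF r) hr
    obtain ⟨g, hg⟩ := exists_su_map hF (n := m + 1) (u := Pi.single 0 μ) (v := r) (by
      rw [herm_single_left, Pi.single_eq_same, hμ]) (by
      rw [herm_single_left, Pi.single_eq_same, hμ]; exact hr)
    obtain ⟨x, hx⟩ := exists_unit_ne hF hq (n := m) (tl (mat g⁻¹ *ᵥ s))
    refine ⟨lift0 hF g x, ?_, ?_⟩
    · rw [herm_lift0, ← hg, Matrix.mulVec_mulVec, mat_inv_mul, Matrix.one_mulVec,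
        single_zero_eq_cons, tl_cons, herm_zero_right hF]
    · rw [herm_lift0]
      exact hx
  by_cases hr : hermForm (n + 4) F q r r = 0
  · obtain ⟨y, hy⟩ := exists_unit_of_isotropic hF hr h0 (one_ne_zero (α := F))
    obtain ⟨g, hg⟩ := exists_su_smul hF (e0 (n + 3) F q) y
    have h1 : hermForm (n + 3) F q (tl (mat g⁻¹ *ᵥ r)) (tl (mat g⁻¹ *ᵥ r)) ≠ 0 := by
      rw [herm_tl hF, hr, hg, hy, herm_swap hF y.val, hy, one_pow, mul_one, zero_sub]
      exact neg_ne_zero.2 one_ne_zero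
    obtain ⟨x, hx1, hx2⟩ := key n _ (tl (mat g⁻¹ *ᵥ s)) h1
    exact ⟨lift0 hF g x, by rw [herm_lift0]; exact hx1, by rw [herm_lift0]; exact hx2⟩
  · exact key (n + 1) r s hr

/-- an intermediate vector (`q ≥ 3`, dimension at least six) -/
theorem exists_step (hF : Fintype.card F = q ^ 2) (hq : 3 ≤ q) {n : ℕ} (p w u u' : Pt (n + 6) F q)
    (hpu : orth p u) : ∃ v : Pt (n + 6) F q, orth p v ∧ orth v w ∧ orth u v ∧ adj v u' := by
  obtain ⟨g, g', hg, hg'⟩ := exists_frame_two hF (n := n + 3) p u (orth_symm hF hpu)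
  have huv : (tl (mat g⁻¹ *ᵥ u.val)) = (g' • e0 (n + 4) F q).val := by
    rw [← hg']
    change tl (mat g⁻¹ *ᵥ (mat g *ᵥ Fin.cons 0 (g' • e0 (n + 4) F q).val)) = _
    rw [Matrix.mulVec_mulVec, mat_inv_mul, Matrix.one_mulVec, tl_cons]
  obtain ⟨x, hx1, hx2⟩ := exists_unit_ne_perp hF hq (n := n)
    (tl (mat g'⁻¹ *ᵥ tl (mat g⁻¹ *ᵥ w.val))) (tl (mat g'⁻¹ *ᵥ tl (mat g⁻¹ *ᵥ u'.val)))
  refine ⟨lift0 hF g (lift0 hF g' x), ?_, ?_, ?_, ?_⟩
  · rw [← hg]
    exact orth_symm hF (herm_lift0_base hF _ _)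
  · rw [orth, herm_lift0, herm_lift0]
    exact hx1
  · apply orth_symm hF
    rw [orth, herm_lift0, huv]
    exact herm_lift0_base hF _ _
  · rw [adj, herm_swap hF (lift0 hF g (lift0 hF g' x)).val u'.val, herm_lift0, herm_lift0]
    exact hx2

end Cfsg.Agent.H434
end

-- part: H434/Weak
section
/-!
# Weak Phan systems

`exists_weak_system` : from subgroups `U i`, `V i j` such that consecutive `U`'s form a standard pair in `V` and
distant `U`'s commute elementwise, to a `System` of homomorphisms (every `q ≥ 2`).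
-/

set_option autoImplicit false

namespace Cfsg.Agent.H434

open Matrix Cfsg Cfsg.Agent.Phan
open Cfsg.Agent.LieClassical.HermBasic

variable {F : Type*} [Field F] {q : ℕ} [Fintype F]

/-- An element which is trivial off the range of `e` is in the image of `ext`. -/
theorem mem_range_ext (hF : Fintype.card F = q ^ 2) {m n : ℕ} (e : Fin m → Fin n)
    (he : Function.Injective e) (A : SU n F q)
    (hl : ∀ k, (∀ i, k ≠ e i) → ∀ l, mat A k l = (1 : Matrix (Fin n) (Fin n) F) k l)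
    (hr : ∀ k, (∀ i, k ≠ e i) → ∀ l, mat A l k = (1 : Matrix (Fin n) (Fin n) F) l k) :
    ∃ x : SU m F q, Phan.ext hF e he x = A := by
  have key : mat A = extM e ((mat A).submatrix e e) := by
    ext a b
    by_cases ha : ∀ i, a ≠ e i
    · rw [extM_apply_left ha, hl a ha]
    · by_cases hb : ∀ i, b ≠ e i
      · rw [extM_apply_right he hb, hr b hb]
      · push Not at ha hb
        obtain ⟨i, rfl⟩ := ha
        obtain ⟨j, rfl⟩ := hb
        rw [extM_apply he, Matrix.submatrix_apply]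
  refine ⟨mk ((mat A).submatrix e e) ?_ ?_, ?_⟩
  · rw [← extM_det he, ← key, mat_det]
  · intro u v
    rw [← herm_inc he, ← herm_inc he u v, ← extM_inc he, ← extM_inc he, ← key, mat_isom]
  · apply mat_inj
    rw [mat_ext, mat_mk]
    exact key.symm

/-- The block subgroup is the image of the embedding. -/
theorem suBlock_eq (hF : Fintype.card F = q ^ 2) {m n : ℕ} (e : Fin m → Fin n)
    (he : Function.Injective e) (s : Set (Fin n)) (hs : ∀ k, k ∉ s ↔ ∀ i, k ≠ e i) :
    suBlock n F q s = (Phan.ext hF e he).range := by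
  apply le_antisymm
  · rw [suBlock, Subgroup.closure_le]
    intro A hA
    obtain ⟨x, hx⟩ := mem_range_ext hF e he A (fun k hk l => by
      have h1 := hA k ((hs k).2 hk)
      by_cases hlk : l = k
      · subst hlk
        rw [Matrix.one_apply_eq]
        exact h1.1
      · rw [Matrix.one_apply_ne (Ne.symm hlk)]
        exact (h1.2 l hlk).1) (fun k hk l => by
      have h1 := hA k ((hs k).2 hk)
      by_cases hlk : l = k
      · subst hlk
        rw [Matrix.one_apply_eq]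
        exact h1.1
      · rw [Matrix.one_apply_ne hlk]
        exact (h1.2 l hlk).2)
    exact ⟨x, hx⟩
  · rintro _ ⟨x, rfl⟩
    apply Subgroup.subset_closure
    intro k hk
    have hk' := (hs k).1 hk
    change mat (Phan.ext hF e he x) k k = 1 ∧ ∀ l, l ≠ k → mat (Phan.ext hF e he x) k l = 0 ∧
      mat (Phan.ext hF e he x) l k = 0
    rw [mat_ext]
    refine ⟨?_, ?_⟩
    · rw [extM_apply_left hk', Matrix.one_apply_eq]
    · intro l hl
      rw [extM_apply_left hk', extM_apply_right he hk', Matrix.one_apply_ne (Ne.symm hl),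
        Matrix.one_apply_ne hl]
      exact ⟨rfl, rfl⟩

theorem suBlock_three_left (hF : Fintype.card F = q ^ 2) :
    suBlock 3 F q {0, 1} = (emb hF 0 (by omega : 0 + 2 ≤ 3)).range := by
  refine suBlock_eq hF _ _ _ ?_
  intro k
  constructor
  · intro hk i hi
    apply hk
    rw [hi]
    fin_cases i
    · left; rfl
    · right; rfl
  · intro h hk
    rcases hk with hk | hk
    · exact h 0 (by rw [hk]; rfl)
    · rw [Set.mem_singleton_iff] at hk
      exact h 1 (by rw [hk]; rfl)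

theorem suBlock_three_right (hF : Fintype.card F = q ^ 2) :
    suBlock 3 F q {1, 2} = (emb hF 1 (by omega : 1 + 2 ≤ 3)).range := by
  refine suBlock_eq hF _ _ _ ?_
  intro k
  constructor
  · intro hk i hi
    apply hk
    rw [hi]
    fin_cases i
    · left; rfl
    · right; rfl
  · intro h hk
    rcases hk with hk | hk
    · exact h 0 (by rw [hk]; rfl)
    · rw [Set.mem_singleton_iff] at hk
      exact h 1 (by rw [hk]; rfl)

/-- A standard pair comes from a homomorphism of `SU 3` with central kernel. -/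
theorem exists_of_standard (hF : Fintype.card F = q ^ 2) {G : Type*} [Group G]
    {V A B : Subgroup G} (h : IsStandardUnitaryPair V A B F q) :
    ∃ ψ : SU 3 F q →* G, ψ.range = V ∧ ψ.ker ≤ Subgroup.center (SU 3 F q) ∧
      (ψ.comp (emb hF 0 (by omega : 0 + 2 ≤ 3))).range = A ∧
      (ψ.comp (emb hF 1 (by omega : 1 + 2 ≤ 3))).range = B := by
  rw [IsStandardUnitaryPair, suBlock_three_left hF, suBlock_three_right hF] at h
  rcases h with ⟨ψ, hA, hB⟩ | ⟨ψ, hA, hB⟩
  · refine ⟨V.subtype.comp ψ.toMonoidHom, ?_, ?_, ?_, ?_⟩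
    · rw [MonoidHom.range_comp, MonoidHom.range_eq_top.2 ψ.surjective, ← MonoidHom.range_eq_map,
        Subgroup.range_subtype]
    · intro x hx
      have h1 : ψ x = 1 := by
        apply Subtype.ext
        exact hx
      rw [EmbeddingLike.map_eq_one_iff] at h1
      rw [h1]
      exact one_mem _
    · rw [MonoidHom.range_comp]
      exact hA
    · rw [MonoidHom.range_comp]
      exact hB
  · refine ⟨V.subtype.comp (ψ.toMonoidHom.comp
      (QuotientGroup.mk' (Subgroup.center (SU 3 F q)))), ?_, ?_, ?_, ?_⟩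
    · rw [MonoidHom.range_comp, MonoidHom.range_eq_top.2, ← MonoidHom.range_eq_map,
        Subgroup.range_subtype]
      exact ψ.surjective.comp (QuotientGroup.mk'_surjective _)
    · intro x hx
      have h1 : ψ (QuotientGroup.mk' (Subgroup.center (SU 3 F q)) x) = 1 := by
        apply Subtype.ext
        exact hx
      rw [EmbeddingLike.map_eq_one_iff] at h1
      exact (QuotientGroup.eq_one_iff x).1 h1
    · rw [MonoidHom.range_comp]
      exact hA
    · rw [MonoidHom.range_comp]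
      exact hB

/-- homomorphisms with central kernel are injective on the blocks -/
theorem inj_of_ker (hF : Fintype.card F = q ^ 2) {H : Type*} [Group H] {ψ : SU 3 F q →* H}
    (h : ψ.ker ≤ Subgroup.center (SU 3 F q)) {a : ℕ} (ha : a + 2 ≤ 3) :
    Function.Injective (ψ.comp (emb hF a ha)) := by
  rw [injective_iff_map_eq_one]
  intro x hx
  have h1 : emb hF a ha x ∈ Subgroup.center (SU 3 F q) := h hx
  have h2 : emb hF a ha x = 1 := by
    obtain ⟨i, hi⟩ : ∃ i : Fin 3, (i : ℕ) < a ∨ a + 2 ≤ i := by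
      by_cases h0 : a = 0
      · exact ⟨2, Or.inr (by rw [h0]; decide)⟩
      · exact ⟨0, Or.inl (by simp; omega)⟩
    exact eq_one_of_center_fix hF (n := 1) (fun g => Subgroup.mem_center_iff.1 h1 g)
      (pe 3 F q i) (emb_smul_pe hF a ha x hi)
  exact emb_injective hF a ha (by rw [h2, map_one])

/-- a torus element -/
theorem exists_torus_param (hF : Fintype.card F = q ^ 2) :
    ∃ c : F, c * c ^ q = 1 ∧ c * c ≠ 1 := by
  classical
  by_contra hcon
  push Not at hcon
  have h3 : (Finset.univ.filter fun y : F => y * y ^ q = 1) ⊆ {1, -1} := by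
    intro y hy
    simp only [Finset.mem_filter, Finset.mem_univ, true_and] at hy
    rw [Finset.mem_insert, Finset.mem_singleton]
    exact mul_self_eq_one_iff.1 (hcon y hy)
  have h4 := Finset.card_le_card h3
  have h5 : (Finset.univ.filter fun y : F => y * y ^ q = 1).card = q + 1 := by
    rw [← card_norm_eq_one hF, Nat.card_eq_fintype_card, Fintype.card_subtype]
  rw [h5] at h4
  have h6 := Finset.card_le_two (a := (1 : F)) (b := -1)
  have := two_le hF
  omega

/-! ### the action of the tori -/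

/-- matrices of the two embeddings -/
theorem mat_emb_zero_three (hF : Fintype.card F = q ^ 2) (x : SU 2 F q) :
    mat (emb hF 0 (by omega : 0 + 2 ≤ 3) x) =
      !![mat x 0 0, mat x 0 1, 0; mat x 1 0, mat x 1 1, 0; 0, 0, 1] := by
  have hi := sh_injective 0 (by omega : 0 + 2 ≤ 3)
  have h0 : ∀ i j : Fin 2, mat (emb hF 0 (by omega : 0 + 2 ≤ 3) x)
      (sh 0 (by omega : 0 + 2 ≤ 3) i) (sh 0 (by omega : 0 + 2 ≤ 3) j) = mat x i j :=
    fun i j => extM_apply hi _ i j
  have hn : ∀ i : Fin 2, (2 : Fin 3) ≠ sh 0 (by omega : 0 + 2 ≤ 3) i := by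
    intro i hi
    have := congrArg Fin.val hi
    rw [sh_val] at this
    simp at this
    omega
  have hr : ∀ a : Fin 3, mat (emb hF 0 (by omega : 0 + 2 ≤ 3) x) a 2 =
      (1 : Matrix (Fin 3) (Fin 3) F) a 2 := fun a => extM_apply_right hi hn _ a
  have hl : ∀ a : Fin 3, mat (emb hF 0 (by omega : 0 + 2 ≤ 3) x) 2 a =
      (1 : Matrix (Fin 3) (Fin 3) F) 2 a := fun a => extM_apply_left hn _ a
  ext a b
  fin_cases a <;> fin_cases b
  · exact h0 0 0
  · exact h0 0 1
  · exact (hr 0).trans (by simp)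
  · exact h0 1 0
  · exact h0 1 1
  · exact (hr 1).trans (by simp)
  · exact (hl 0).trans (by simp)
  · exact (hl 1).trans (by simp)
  · exact (hr 2).trans (by simp)

theorem mat_emb_one_three (hF : Fintype.card F = q ^ 2) (x : SU 2 F q) :
    mat (emb hF 1 (by omega : 1 + 2 ≤ 3) x) =
      !![1, 0, 0; 0, mat x 0 0, mat x 0 1; 0, mat x 1 0, mat x 1 1] := by
  have hi := sh_injective 1 (by omega : 1 + 2 ≤ 3)
  have h0 : ∀ i j : Fin 2, mat (emb hF 1 (by omega : 1 + 2 ≤ 3) x)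
      (sh 1 (by omega : 1 + 2 ≤ 3) i) (sh 1 (by omega : 1 + 2 ≤ 3) j) = mat x i j :=
    fun i j => extM_apply hi _ i j
  have hn : ∀ i : Fin 2, (0 : Fin 3) ≠ sh 1 (by omega : 1 + 2 ≤ 3) i := by
    intro i hi
    have := congrArg Fin.val hi
    rw [sh_val] at this
    simp at this
    omega
  have hr : ∀ a : Fin 3, mat (emb hF 1 (by omega : 1 + 2 ≤ 3) x) a 0 =
      (1 : Matrix (Fin 3) (Fin 3) F) a 0 := fun a => extM_apply_right hi hn _ a
  have hl : ∀ a : Fin 3, mat (emb hF 1 (by omega : 1 + 2 ≤ 3) x) 0 a =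
      (1 : Matrix (Fin 3) (Fin 3) F) 0 a := fun a => extM_apply_left hn _ a
  ext a b
  fin_cases a <;> fin_cases b
  · exact (hr 0).trans (by simp)
  · exact (hl 1).trans (by simp)
  · exact (hl 2).trans (by simp)
  · exact (hr 1).trans (by simp)
  · exact h0 0 0
  · exact h0 0 1
  · exact (hr 2).trans (by simp)
  · exact h0 1 0
  · exact h0 1 1

/-- conjugation by `diag(d, 1)` on `SU 2` -/
theorem conj_zero (hF : Fintype.card F = q ^ 2) (c : F) (hc : c * c ^ q = 1) (x : SU 2 F q)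
    (hd : ∀ i : Fin 2, (![c ^ q, 1] : Fin 2 → F) i * (![c ^ q, 1] : Fin 2 → F) i ^ q = 1) :
    emb hF 0 (by omega : 0 + 2 ≤ 3) (tor hF c hc) * emb hF 1 (by omega : 1 + 2 ≤ 3) x =
      emb hF 1 (by omega : 1 + 2 ≤ 3) (fr hF (RingEquiv.refl F) ![c ^ q, 1] hd x) *
        emb hF 0 (by omega : 0 + 2 ≤ 3) (tor hF c hc) := by
  have hcq : c ^ q ≠ 0 := by
    intro h
    rw [h, mul_zero] at hc
    exact zero_ne_one hc
  apply mat_inj
  rw [mat_mul, mat_mul, mat_emb_zero_three, mat_emb_one_three, mat_emb_one_three, mat_tor, mat_fr]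
  ext a b
  fin_cases a <;> fin_cases b <;>
    simp [Matrix.mul_apply, Fin.sum_univ_three, frM_apply, hcq]

theorem conj_one (hF : Fintype.card F = q ^ 2) (c : F) (hc : c * c ^ q = 1) (x : SU 2 F q)
    (hd : ∀ i : Fin 2, (![1, c] : Fin 2 → F) i * (![1, c] : Fin 2 → F) i ^ q = 1) :
    emb hF 1 (by omega : 1 + 2 ≤ 3) (tor hF c hc) * emb hF 0 (by omega : 0 + 2 ≤ 3) x =
      emb hF 0 (by omega : 0 + 2 ≤ 3) (fr hF (RingEquiv.refl F) ![1, c] hd x) *
        emb hF 1 (by omega : 1 + 2 ≤ 3) (tor hF c hc) := by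
  have hc0 : c ≠ 0 := by
    intro h
    rw [h, zero_mul] at hc
    exact zero_ne_one hc
  apply mat_inj
  rw [mat_mul, mat_mul, mat_emb_zero_three, mat_emb_one_three, mat_emb_zero_three, mat_tor, mat_fr]
  ext a b
  fin_cases a <;> fin_cases b <;>
    simp [Matrix.mul_apply, Fin.sum_univ_three, frM_apply, hc0]

/-- `x` diagonal iff fixed by a frame automorphism -/
theorem isDiag_of_fr_eq (hF : Fintype.card F = q ^ 2) {a b : F} (hab : a ≠ b)
    (hd : ∀ i : Fin 2, (![a, b] : Fin 2 → F) i * (![a, b] : Fin 2 → F) i ^ q = 1) {x : SU 2 F q}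
    (h : fr hF (RingEquiv.refl F) ![a, b] hd x = x) : IsDiag x := by
  have ha : a ≠ 0 := ne_zero_of_norm (hd 0)
  have hb : b ≠ 0 := ne_zero_of_norm (hd 1)
  have h1 := congrArg mat h
  rw [mat_fr] at h1
  constructor
  · have h2 := congrFun (congrFun h1 0) 1
    rw [frM_apply] at h2
    simp only [Matrix.cons_val_zero, Matrix.cons_val_one, RingEquiv.refl_apply] at h2
    have h3 : (a - b) * mat x 0 1 = 0 := by
      have : a * mat x 0 1 * b⁻¹ * b = mat x 0 1 * b := by rw [h2]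
      rw [mul_assoc (a * mat x 0 1), inv_mul_cancel₀ hb, mul_one] at this
      linear_combination this
    exact (mul_eq_zero.1 h3).resolve_left (sub_ne_zero.2 hab)
  · have h2 := congrFun (congrFun h1 1) 0
    rw [frM_apply] at h2
    simp only [Matrix.cons_val_zero, Matrix.cons_val_one, RingEquiv.refl_apply] at h2
    have h3 : (b - a) * mat x 1 0 = 0 := by
      have : b * mat x 1 0 * a⁻¹ * a = mat x 1 0 * a := by rw [h2]
      rw [mul_assoc (b * mat x 1 0), inv_mul_cancel₀ ha, mul_one] at this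
      linear_combination this
    exact (mul_eq_zero.1 h3).resolve_left (sub_ne_zero.2 (Ne.symm hab))

theorem fr_eq_of_isDiag (hF : Fintype.card F = q ^ 2) {a b : F}
    (hd : ∀ i : Fin 2, (![a, b] : Fin 2 → F) i * (![a, b] : Fin 2 → F) i ^ q = 1) {x : SU 2 F q}
    (h : IsDiag x) : fr hF (RingEquiv.refl F) ![a, b] hd x = x := by
  have ha : a ≠ 0 := ne_zero_of_norm (hd 0)
  have hb : b ≠ 0 := ne_zero_of_norm (hd 1)
  apply mat_inj
  rw [mat_fr]
  ext i j
  rw [frM_apply]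
  fin_cases i <;> fin_cases j
  · simp only [Fin.zero_eta, Matrix.cons_val_zero, RingEquiv.refl_apply]
    field_simp
  · change a * (RingEquiv.refl F) (mat x 0 1) * b⁻¹ = mat x 0 1
    rw [h.1, map_zero, mul_zero, zero_mul]
  · change b * (RingEquiv.refl F) (mat x 1 0) * a⁻¹ = mat x 1 0
    rw [h.2, map_zero, mul_zero, zero_mul]
  · change b * (RingEquiv.refl F) (mat x 1 1) * b⁻¹ = mat x 1 1
    rw [RingEquiv.refl_apply]
    field_simp

/-! ### the two tori agree -/

omit [Fintype F] in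
theorem torus_alg {T D : Matrix (Fin 2) (Fin 2) F} {l m x y c c' : F} (hD : D.det ≠ 0)
    (hcc : c * c' = 1) (hc2 : c * c ≠ 1) (hlm : l ≠ m)
    (h00 : T 0 0 * D 0 0 + T 0 1 * D 1 0 = D 0 0 * l)
    (h10 : T 1 0 * D 0 0 + T 1 1 * D 1 0 = D 1 0 * l)
    (h01 : T 0 0 * D 0 1 + T 0 1 * D 1 1 = D 0 1 * m)
    (h11 : T 1 0 * D 0 1 + T 1 1 * D 1 1 = D 1 1 * m)
    (g00 : T 0 0 * D 0 0 + c' * T 0 1 * D 1 0 = D 0 0 * x)
    (g10 : c * T 1 0 * D 0 0 + T 1 1 * D 1 0 = D 1 0 * x)
    (g01 : T 0 0 * D 0 1 + c' * T 0 1 * D 1 1 = D 0 1 * y)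
    (g11 : c * T 1 0 * D 0 1 + T 1 1 * D 1 1 = D 1 1 * y) :
    D 0 0 * D 1 0 = 0 := by
  rw [Matrix.det_fin_two] at hD
  set a := D 0 0
  set b := D 1 0
  set a' := D 0 1
  set b' := D 1 1
  set p := T 0 0
  set r := T 0 1
  set s := T 1 0
  set u := T 1 1
  -- trace and determinant
  have htr : p + u = l + m := by
    have : (p + u) * (a * b' - a' * b) = (l + m) * (a * b' - a' * b) := by
      linear_combination b' * h00 - a' * h10 - b * h01 + a * h11
    exact mul_right_cancel₀ hD this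
  have htr' : p + u = x + y := by
    have : (p + u) * (a * b' - a' * b) = (x + y) * (a * b' - a' * b) := by
      linear_combination b' * g00 - a' * g10 - b * g01 + a * g11
    exact mul_right_cancel₀ hD this
  have hdet : p * u - r * s = l * m := by
    have : (p * u - r * s) * (a * b' - a' * b) = (l * m) * (a * b' - a' * b) := by
      linear_combination (s * a' + u * b') * h00 - (p * a' + r * b') * h10 + b * l * (-h01) +
        a * l * h11
    exact mul_right_cancel₀ hD this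
  have hdet' : p * u - r * s = x * y := by
    have : (p * u - (c * c') * r * s) * (a * b' - a' * b) = (x * y) * (a * b' - a' * b) := by
      linear_combination (c * s * a' + u * b') * g00 - (p * a' + c' * r * b') * g10 +
        b * x * (-g01) + a * x * g11
    rw [hcc, one_mul] at this
    exact mul_right_cancel₀ hD this
  have hxy : (x - l) * (x - m) = 0 := by
    linear_combination x * (htr - htr') - (hdet - hdet')
  have hc1 : c ≠ 1 := by rintro rfl; exact hc2 (one_mul 1)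
  have hc'1 : c' ≠ 1 := by
    rintro rfl
    rw [mul_one] at hcc
    exact hc1 hcc
  by_contra hab
  have ha : a ≠ 0 := fun h => hab (by rw [h, zero_mul])
  have hb : b ≠ 0 := fun h => hab (by rw [h, mul_zero])
  have e1 : (c' - 1) * r * b = (x - l) * a := by linear_combination g00 - h00
  have e2 : (c - 1) * s * a = (x - l) * b := by linear_combination g10 - h10
  rcases mul_eq_zero.1 hxy with h | h
  · rw [h, zero_mul] at e1 e2
    have hr : r = 0 := by
      rcases mul_eq_zero.1 e1 with h1 | h1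
      · exact (mul_eq_zero.1 h1).resolve_left (sub_ne_zero.2 hc'1)
      · exact absurd h1 hb
    have hs : s = 0 := by
      rcases mul_eq_zero.1 e2 with h1 | h1
      · exact (mul_eq_zero.1 h1).resolve_left (sub_ne_zero.2 hc1)
      · exact absurd h1 ha
    rw [hr, zero_mul, add_zero] at h00
    rw [hs, zero_mul, zero_add] at h10
    have hp : p = l := mul_right_cancel₀ ha (by rw [h00, mul_comm])
    have hu : u = l := mul_right_cancel₀ hb (by rw [h10, mul_comm])
    apply hlm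
    linear_combination htr - hp - hu
  · -- `x = m`, `y = l`
    have hx : x = m := sub_eq_zero.1 h
    have hy : y = l := by linear_combination htr - htr' - hx
    rw [hx] at e1 e2
    have e3 : (c' - 1) * r * b' = (l - m) * a' := by rw [hy] at g01; linear_combination g01 - h01
    have e4 : (c - 1) * s * a' = (l - m) * b' := by rw [hy] at g11; linear_combination g11 - h11
    have hlm' : m - l ≠ 0 := sub_ne_zero.2 (Ne.symm hlm)
    -- `a b' + a' b = 0`
    have e5 : a * b' + a' * b = 0 := by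
      have : (m - l) * (a * b' + a' * b) = 0 := by linear_combination b * e3 - b' * e1
      exact (mul_eq_zero.1 this).resolve_left hlm'
    have hb' : b' ≠ 0 := by
      intro h0
      rw [h0, mul_zero, zero_add] at e5
      have ha' := (mul_eq_zero.1 e5).resolve_right hb
      apply hD
      rw [h0, ha']
      ring
    have e6 : 2 * r * b = (l - m) * a := by
      have h7 : a' = -(a * b') / b := by
        field_simp
        linear_combination e5
      have : b' * (2 * r * b) = b' * ((l - m) * a) := by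
        rw [h7] at h01
        field_simp at h01
        linear_combination b' * h00 + b' * h01
      exact mul_left_cancel₀ hb' this
    have e7 : (c' + 1) * (r * b) = 0 := by linear_combination e1 + e6
    rcases mul_eq_zero.1 e7 with h7 | h7
    · apply hc2
      have hc' : c' = -1 := by linear_combination h7
      rw [hc'] at hcc
      have : c = -1 := by linear_combination -hcc
      rw [this]
      ring
    · have : (m - l) * a = 0 := by
        have h8 : (c' - 1) * (r * b) = (m - l) * a := by linear_combination e1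
        rw [← h8, h7, mul_zero]
      rcases mul_eq_zero.1 this with h8 | h8
      · exact hlm' h8
      · exact ha h8

omit [Fintype F] in
theorem diag_of_monomial {D E Y N : Matrix (Fin 2) (Fin 2) F} (hDE : D * E = 1)
    (h0 : D 0 0 * D 1 0 = 0) (h1 : D 0 1 * D 1 1 = 0) (hN : Y = D * N * E)
    (hY : Y 0 1 = 0 ∧ Y 1 0 = 0) : N 0 1 = 0 ∧ N 1 0 = 0 := by
  have hED : E * D = 1 := mul_eq_one_comm.1 hDE
  have hdet : D 0 0 * D 1 1 - D 0 1 * D 1 0 ≠ 0 := by
    rw [← Matrix.det_fin_two]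
    intro h
    have := congrArg Matrix.det hDE
    rw [Matrix.det_mul, h, zero_mul, Matrix.det_one] at this
    exact zero_ne_one this
  have hYD : Y * D = D * N := by rw [hN, Matrix.mul_assoc, hED, Matrix.mul_one]
  have e00 := congrFun (congrFun hYD 0) 0
  have e01 := congrFun (congrFun hYD 0) 1
  have e10 := congrFun (congrFun hYD 1) 0
  have e11 := congrFun (congrFun hYD 1) 1
  simp only [Matrix.mul_apply, Fin.sum_univ_two, hY.1, hY.2, zero_mul, add_zero, zero_add]
    at e00 e01 e10 e11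
  rcases mul_eq_zero.1 h0 with h | h
  · have h10 : D 1 0 ≠ 0 := by
      intro h'
      apply hdet
      rw [h, h']
      ring
    have h01 : D 0 1 ≠ 0 := by
      intro h'
      apply hdet
      rw [h, h']
      ring
    have h11 : D 1 1 = 0 := (mul_eq_zero.1 h1).resolve_left h01
    rw [h, mul_zero, zero_mul, zero_add] at e00
    rw [h11, mul_zero, zero_mul, add_zero] at e11
    exact ⟨(mul_eq_zero.1 e11.symm).resolve_left h10, (mul_eq_zero.1 e00.symm).resolve_left h01⟩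
  · have h00 : D 0 0 ≠ 0 := by
      intro h'
      apply hdet
      rw [h, h']
      ring
    have h11 : D 1 1 ≠ 0 := by
      intro h'
      apply hdet
      rw [h, h']
      ring
    have h01 : D 0 1 = 0 := (mul_eq_zero.1 h1).resolve_right h11
    rw [h, mul_zero, zero_mul, zero_add] at e10
    rw [h01, mul_zero, zero_mul, add_zero] at e01
    exact ⟨(mul_eq_zero.1 e01.symm).resolve_left h00, (mul_eq_zero.1 e10.symm).resolve_left h11⟩

/-- **The two tori agree.** -/
theorem torus_compat (hF : Fintype.card F = q ^ 2) {H : Type*} [Group H] {ψ₁ ψ₂ : SU 3 F q →* H}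
    (hk₁ : ψ₁.ker ≤ Subgroup.center (SU 3 F q)) (hk₂ : ψ₂.ker ≤ Subgroup.center (SU 3 F q))
    (hr : (ψ₁.comp (emb hF 1 (by omega : 1 + 2 ≤ 3))).range =
      (ψ₂.comp (emb hF 0 (by omega : 0 + 2 ≤ 3))).range)
    (hc : ∀ x y : SU 2 F q, Commute (ψ₁ (emb hF 0 (by omega : 0 + 2 ≤ 3) x))
      (ψ₂ (emb hF 1 (by omega : 1 + 2 ≤ 3) y))) (y : SU 2 F q) (hy : IsDiag y) :
    ∃ z : SU 2 F q, IsDiag z ∧ ψ₁ (emb hF 1 (by omega : 1 + 2 ≤ 3) y) =
      ψ₂ (emb hF 0 (by omega : 0 + 2 ≤ 3) z) := by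
  classical
  set ρ₁ : SU 2 F q →* H := ψ₁.comp (emb hF 1 (by omega : 1 + 2 ≤ 3)) with hρ₁
  set ρ₂ : SU 2 F q →* H := ψ₂.comp (emb hF 0 (by omega : 0 + 2 ≤ 3)) with hρ₂
  have i1 : Function.Injective ρ₁ := inj_of_ker hF hk₁ _
  have i2 : Function.Injective ρ₂ := inj_of_ker hF hk₂ _
  set δ : SU 2 F q ≃* SU 2 F q := (MonoidHom.ofInjective i2).trans
    ((MulEquiv.subgroupCongr hr.symm).trans (MonoidHom.ofInjective i1).symm) with hδ
  have hδρ : ∀ x, ρ₁ (δ x) = ρ₂ x := by
    intro x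
    have h3 : ∀ y : ρ₁.range, ρ₁ ((MonoidHom.ofInjective i1).symm y) = y := by
      intro y
      have := (MonoidHom.ofInjective i1).apply_symm_apply y
      exact congrArg Subtype.val this
    change ρ₁ ((MonoidHom.ofInjective i1).symm
      ((MulEquiv.subgroupCongr hr.symm) (MonoidHom.ofInjective i2 x))) = ρ₂ x
    rw [h3]
    rfl
  obtain ⟨c, hcc, hc2⟩ := exists_torus_param hF
  have hcq1 : c ≠ c ^ q := by
    intro h
    rw [← h] at hcc
    exact hc2 hcc
  have hc1 : c ≠ 1 := by rintro rfl; exact hc2 (one_mul 1)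
  have hcq : c ^ q ≠ 1 := by
    intro h
    rw [h, mul_one] at hcc
    exact hc1 hcc
  have hdA : ∀ i : Fin 2, (![c ^ q, 1] : Fin 2 → F) i * (![c ^ q, 1] : Fin 2 → F) i ^ q = 1 := by
    intro i
    fin_cases i
    · simp only [Fin.zero_eta, Matrix.cons_val_zero]
      rw [pow_q_pow_q hF, mul_comm, hcc]
    · simp
  have hdB : ∀ i : Fin 2, (![1, c] : Fin 2 → F) i * (![1, c] : Fin 2 → F) i ^ q = 1 := by
    intro i
    fin_cases i
    · simp
    · exact hcc
  set t := tor hF c hcc with ht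
  have htd : IsDiag t := by
    rw [Phan.IsDiag, ht, mat_tor]
    exact ⟨rfl, rfl⟩
  set t' := δ t with ht'
  set s := ψ₁ (emb hF 0 (by omega : 0 + 2 ≤ 3) t) with hs
  set s' := ψ₂ (emb hF 1 (by omega : 1 + 2 ≤ 3) t) with hs'
  have hss : Commute s s' := hc t t
  have hα : ∀ x, s * ρ₁ x = ρ₁ (fr hF (RingEquiv.refl F) ![c ^ q, 1] hdA x) * s := by
    intro x
    have := congrArg ψ₁ (conj_zero hF c hcc x hdA)
    rw [map_mul, map_mul] at this
    exact this
  have hβ : ∀ x, s' * ρ₂ x = ρ₂ (fr hF (RingEquiv.refl F) ![1, c] hdB x) * s' := by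
    intro x
    have := congrArg ψ₂ (conj_one hF c hcc x hdB)
    rw [map_mul, map_mul] at this
    exact this
  -- `s'` commutes with `ρ₁ t'`
  have h1 : Commute s' (ρ₁ t') := by
    rw [ht', hδρ]
    change s' * ρ₂ t = ρ₂ t * s'
    rw [hβ, fr_eq_of_isDiag hF hdB htd]
  set t'' := fr hF (RingEquiv.refl F) ![c ^ q, 1] hdA t' with ht''
  have h2 : Commute s' (ρ₁ t'') := by
    have h3 : ρ₁ t'' = s * ρ₁ t' * s⁻¹ := by rw [hα, mul_inv_cancel_right]
    rw [h3]
    exact (hss.symm.mul_right h1).mul_right hss.symm.inv_right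
  obtain ⟨x, hx⟩ : ∃ x, δ x = t'' := δ.surjective t''
  have hxd : IsDiag x := by
    apply isDiag_of_fr_eq hF (Ne.symm hc1) hdB
    apply i2
    have h3 : s' * ρ₂ x = ρ₂ x * s' := by
      rw [← hδρ, hx]
      exact h2
    rw [hβ] at h3
    exact mul_right_cancel h3
  -- matrices
  obtain ⟨D, E, τ, hDE, hED, hδm⟩ := aut_su2 hF δ
  have hT : mat t' * D = D * (mat t).map τ := by
    rw [ht', hδm, Matrix.mul_assoc, hED, Matrix.mul_one]
  have hT' : mat t'' * D = D * (mat x).map τ := by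
    rw [← hx, hδm, Matrix.mul_assoc, hED, Matrix.mul_one]
  have hDdet : D.det ≠ 0 := by
    intro h
    have := congrArg Matrix.det hDE
    rw [Matrix.det_mul, h, zero_mul, Matrix.det_one] at this
    exact zero_ne_one this
  have hlm : τ c ≠ τ (c ^ q) := fun h => hcq1 (τ.injective h)
  have m00 : mat t 0 0 = c := by rw [ht, mat_tor]; rfl
  have m11 : mat t 1 1 = c ^ q := by rw [ht, mat_tor]; rfl
  have w00 : mat t'' 0 0 = mat t' 0 0 := by
    rw [ht'', mat_fr, frM_apply]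
    change c ^ q * mat t' 0 0 * (c ^ q)⁻¹ = _
    have : c ^ q ≠ 0 := ne_zero_of_norm (hdA 0)
    field_simp
  have w11 : mat t'' 1 1 = mat t' 1 1 := by
    rw [ht'', mat_fr, frM_apply]
    change 1 * mat t' 1 1 * (1)⁻¹ = _
    rw [one_mul, inv_one, mul_one]
  have w01 : mat t'' 0 1 = c ^ q * mat t' 0 1 := by
    rw [ht'', mat_fr, frM_apply]
    change c ^ q * mat t' 0 1 * (1)⁻¹ = _
    rw [inv_one, mul_one]
  have w10 : mat t'' 1 0 = c * mat t' 1 0 := by
    rw [ht'', mat_fr, frM_apply]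
    change 1 * mat t' 1 0 * (c ^ q)⁻¹ = _
    have : (c ^ q)⁻¹ = c := inv_eq_of_mul_eq_one_left hcc
    rw [this, one_mul, mul_comm]
  have e00 := congrFun (congrFun hT 0) 0
  have e01 := congrFun (congrFun hT 0) 1
  have e10 := congrFun (congrFun hT 1) 0
  have e11 := congrFun (congrFun hT 1) 1
  have f00 := congrFun (congrFun hT' 0) 0
  have f01 := congrFun (congrFun hT' 0) 1
  have f10 := congrFun (congrFun hT' 1) 0
  have f11 := congrFun (congrFun hT' 1) 1
  simp only [Matrix.mul_apply, Fin.sum_univ_two, Matrix.map_apply, htd.1, htd.2, hxd.1, hxd.2,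
    map_zero, mul_zero, add_zero, zero_add, m00, m11, w00, w11, w01, w10]
    at e00 e01 e10 e11 f00 f01 f10 f11
  have k0 : D 0 0 * D 1 0 = 0 :=
    torus_alg hDdet hcc hc2 hlm e00 e10 e01 e11 f00 f10 f01 f11
  have k1 : D 0 1 * D 1 1 = 0 := by
    have hDdet' : (!![D 0 1, D 0 0; D 1 1, D 1 0] : Matrix (Fin 2) (Fin 2) F).det ≠ 0 := by
      rw [Matrix.det_fin_two_of]
      rw [Matrix.det_fin_two] at hDdet
      intro h
      apply hDdet
      linear_combination -h
    exact torus_alg (T := mat t') (D := !![D 0 1, D 0 0; D 1 1, D 1 0]) (x := τ (mat x 1 1))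
      (y := τ (mat x 0 0)) hDdet' hcc hc2 (Ne.symm hlm) e01 e11 e00 e10 f01 f11 f00 f10
  refine ⟨δ.symm y, ?_, ?_⟩
  · have h4 : mat y = D * (mat (δ.symm y)).map τ * E := by
      rw [← hδm, MulEquiv.apply_symm_apply]
    have h5 := diag_of_monomial hDE k0 k1 h4 hy
    rw [Matrix.map_apply, Matrix.map_apply] at h5
    exact ⟨(map_eq_zero_iff τ τ.injective).1 h5.1, (map_eq_zero_iff τ τ.injective).1 h5.2⟩
  · change ρ₁ y = ρ₂ (δ.symm y)
    rw [← hδρ, MulEquiv.apply_symm_apply]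

/-- **Weak Phan systems give systems of homomorphisms.** -/
theorem exists_weak_system (hF : Fintype.card F = q ^ 2) {G : Type*} [Group G] (n : ℕ)
    (U : Fin n → Subgroup G) (V : Fin n → Fin n → Subgroup G)
    (h1 : ∀ i j : Fin n, (i : ℕ) + 2 ≤ j → ∀ x ∈ U i, ∀ y ∈ U j, x * y = y * x)
    (h2 : ∀ i j : Fin n, (i : ℕ) + 1 = j → IsStandardUnitaryPair (V i j) (U i) (U j) F q) :
    ∃ (φ : ℕ → (SU 2 F q →* G)) (g : ℕ → (SU 3 F q →* G)), System hF (n + 1) φ g ∧
      ∀ k (hk : k + 1 < n), (g k).range = V ⟨k, by omega⟩ ⟨k + 1, hk⟩ ∧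
        (g k).ker ≤ Subgroup.center (SU 3 F q) ∧
        ((g k).comp (emb hF 0 (by omega : 0 + 2 ≤ 3))).range = U ⟨k, by omega⟩ ∧
        ((g k).comp (emb hF 1 (by omega : 1 + 2 ≤ 3))).range = U ⟨k + 1, hk⟩ := by
  classical
  have hex : ∀ k : ℕ, ∃ ψ : SU 3 F q →* G, ∀ hk : k + 1 < n,
      ψ.range = V ⟨k, by omega⟩ ⟨k + 1, hk⟩ ∧ ψ.ker ≤ Subgroup.center (SU 3 F q) ∧
      (ψ.comp (emb hF 0 (by omega : 0 + 2 ≤ 3))).range = U ⟨k, by omega⟩ ∧
      (ψ.comp (emb hF 1 (by omega : 1 + 2 ≤ 3))).range = U ⟨k + 1, hk⟩ := by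
    intro k
    by_cases hk : k + 1 < n
    · obtain ⟨ψ, a1, a2, a3, a4⟩ := exists_of_standard hF (h2 ⟨k, by omega⟩ ⟨k + 1, hk⟩ rfl)
      exact ⟨ψ, fun _ => ⟨a1, a2, a3, a4⟩⟩
    · exact ⟨1, fun h => absurd h hk⟩
  choose ψ hψ using hex
  have hmem : ∀ i a (hi : i + 3 ≤ n + 1) (ha : a + 2 ≤ 3) (x : SU 2 F q),
      ψ i (emb hF a ha x) ∈ U ⟨i + a, by omega⟩ := by
    intro i a hi ha x
    have h3 := hψ i (by omega)
    have ha' : a = 0 ∨ a = 1 := by omega
    rcases ha' with rfl | rfl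
    · have : (⟨i + 0, by omega⟩ : Fin n) = ⟨i, by omega⟩ := rfl
      rw [this, ← h3.2.2.1]
      exact ⟨x, rfl⟩
    · rw [← h3.2.2.2]
      exact ⟨x, rfl⟩
  have hcomm : ∀ i j a b, i + 3 ≤ n + 1 → j + 3 ≤ n + 1 → ∀ (ha : a + 2 ≤ 3) (hb : b + 2 ≤ 3),
      i + a + 2 ≤ j + b → ∀ x y : SU 2 F q,
      Commute (ψ i (emb hF a ha x)) (ψ j (emb hF b hb y)) := by
    intro i j a b hi hj ha hb hij x y
    exact h1 _ _ hij _ (hmem i a hi ha x) _ (hmem j b hj hb y)
  have hrange : ∀ k, k + 4 ≤ n + 1 → ((ψ k).comp (emb hF 1 (by omega : 1 + 2 ≤ 3))).range =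
      ((ψ (k + 1)).comp (emb hF 0 (by omega : 0 + 2 ≤ 3))).range := by
    intro k hk
    rw [(hψ k (by omega)).2.2.2, (hψ (k + 1) (by omega)).2.2.1]
  obtain ⟨φ, g, hs, hg⟩ := exists_system hF (n := n + 1) ψ
    (fun k hk => inj_of_ker hF (hψ k (by omega)).2.1 _)
    (fun k hk => inj_of_ker hF (hψ k (by omega)).2.1 _)
    hrange
    (fun k hk y hy => torus_compat hF (hψ k (by omega)).2.1 (hψ (k + 1) (by omega)).2.1
      (hrange k hk) (fun x y => hcomm k (k + 1) 0 1 (by omega) (by omega) _ _ (by omega) x y)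
      y hy) hcomm
  refine ⟨φ, g, hs, ?_⟩
  intro k hk
  obtain ⟨τ, d, hd, e⟩ := hg k
  obtain ⟨b1, b2, b3, b4⟩ := hψ k hk
  have hsurj := fr_surjective hF τ d hd
  have hblock : ∀ a (ha : a + 2 ≤ 3), ((g k).comp (emb hF a ha)).range =
      ((ψ k).comp (emb hF a ha)).range := by
    intro a ha
    ext y
    constructor
    · rintro ⟨x, rfl⟩
      refine ⟨fr hF τ (d ∘ sh a ha) (fun i => hd _) x, ?_⟩
      change ψ k (emb hF a ha _) = g k (emb hF a ha x)
      rw [e, ← fr_emb]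
      rfl
    · rintro ⟨x, rfl⟩
      obtain ⟨x', rfl⟩ := fr_surjective hF τ (d ∘ sh a ha) (fun i => hd _) x
      refine ⟨x', ?_⟩
      change g k (emb hF a ha x') = ψ k (emb hF a ha _)
      rw [e, ← fr_emb]
      rfl
  refine ⟨?_, ?_, ?_, ?_⟩
  · rw [e, MonoidHom.range_comp, MonoidHom.range_eq_top.2 hsurj, ← MonoidHom.range_eq_map, b1]
  · intro x hx
    have h3 : fr hF τ d hd x ∈ Subgroup.center (SU 3 F q) := by
      apply b2
      rw [MonoidHom.mem_ker] at hx ⊢
      rw [e] at hx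
      exact hx
    rw [Subgroup.mem_center_iff] at h3 ⊢
    intro y
    apply fr_injective hF τ d hd
    rw [map_mul, map_mul]
    exact h3 _
  · rw [hblock, b3]
  · rw [hblock, b4]

end Cfsg.Agent.H434
end

-- part: H434/Orth
section
/-!
# The inductive step of Phan's theorem through the orthogonality graph

`exists_extension_orth` : dimension at least seven, or at least six and `q ≥ 3`.
`closure_eq_top_orth` : `SU (n+4)` is generated by the stabiliser of the first basis vector and the first `SU 2`, every `q ≥ 2`.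
-/

set_option autoImplicit false

namespace Cfsg.Agent.H434

open Matrix Cfsg Cfsg.Agent.Phan Cfsg.Agent.Phan.Cover
open Cfsg.Agent.LieClassical.HermBasic

variable {F : Type*} [Field F] {q : ℕ} [Fintype F]

/-- the data with the orthogonality graph -/
def octx (hF : Fintype.card F = q ^ 2) (n : ℕ) {H : Type*} [Group H] (α : SU (n + 2) F q →* H)
    (φ : SU 2 F q →* H) : Ctx (SU (n + 3) F q) H (Pt (n + 3) F q) (SU (n + 2) F q) (SU 2 F q) where
  p := e0 (n + 2) F q
  adj := orth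
  ι := emb hF 1 (by omega)
  α := α
  κ := emb hF 0 (by omega)
  φ := φ

theorem octx_hyp (hF : Fintype.card F = q ^ 2) (n : ℕ) {H : Type*} [Group H]
    (α : SU (n + 2) F q →* H) (φ : SU 2 F q →* H)
    (huniq : ∀ (k : SU (n + 2) F q) (a b : SU 2 F q),
      adj (e0 (n + 2) F q) (emb hF 0 (by omega : 0 + 2 ≤ n + 3) a • e0 (n + 2) F q) →
      emb hF 1 (by omega : 1 + (n + 2) ≤ n + 3) k •
        emb hF 0 (by omega : 0 + 2 ≤ n + 3) a • e0 (n + 2) F q =
        emb hF 0 (by omega : 0 + 2 ≤ n + 3) b • e0 (n + 2) F q →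
      ∃ l, emb hF 1 (by omega : 1 + (n + 2) ≤ n + 3) k * emb hF 0 (by omega : 0 + 2 ≤ n + 3) a =
        emb hF 0 (by omega : 0 + 2 ≤ n + 3) b * emb hF 1 (by omega : 1 + (n + 2) ≤ n + 3) l ∧
        α k * φ a = φ b * α l) : (octx hF n α φ).Hyp where
  inj := emb_injective hF _ _
  stab m hm := exists_emb_of_fix hF m hm
  fix k := emb_one_e0 hF k
  symm h := orth_symm hF h
  inv m _ _ h := orth_smul m h
  nbr w hw := exists_of_adj hF w (adj_of_orth hw)
  uniq k a b ha e := huniq k a b (adj_of_orth ha) e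

/-- the hypothesis for the trivial target -/
theorem octx_trivial (hF : Fintype.card F = q ^ 2) (n : ℕ) :
    (octx hF n (1 : SU (n + 2) F q →* PUnit.{1}) 1).Hyp := by
  refine octx_hyp hF n 1 1 ?_
  intro k a b _ e
  have h1 : ((emb hF 0 (by omega : 0 + 2 ≤ n + 3) b)⁻¹ *
      (emb hF 1 (by omega : 1 + (n + 2) ≤ n + 3) k *
      emb hF 0 (by omega : 0 + 2 ≤ n + 3) a)) • e0 (n + 2) F q = e0 (n + 2) F q := by
    rw [mul_smul, mul_smul, e, inv_smul_smul]
  obtain ⟨l, hl⟩ := exists_emb_of_fix hF _ h1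
  exact ⟨l, by rw [hl, mul_inv_cancel_left], Subsingleton.elim _ _⟩

/-- `SU (n+4)` is generated by the stabiliser and the line group, every `q`. -/
theorem closure_eq_top_orth (hF : Fintype.card F = q ^ 2) (n : ℕ) :
    Subgroup.closure (Set.range (emb hF 1 (by omega) : SU (n + 3) F q →* SU (n + 4) F q) ∪
      Set.range (emb hF 0 (by omega) : SU 2 F q →* SU (n + 4) F q)) = ⊤ := by
  have h2 := Cover2.closure_eq_top (octx_trivial hF (n + 1)) (fun w => exists_nbr hF _ w)
  rw [eq_top_iff, ← h2]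
  refine Subgroup.closure_mono (Set.union_subset_union ?_ ?_)
  · rintro _ ⟨k, rfl⟩
    exact ⟨k, rfl⟩
  · rintro _ ⟨a, -, rfl⟩
    exact ⟨a, rfl⟩

/-- Two homomorphisms of `SU (n+4)` agreeing on the stabiliser and the line group are equal. -/
theorem hom_ext_orth (hF : Fintype.card F = q ^ 2) (n : ℕ) {H : Type*} [Group H]
    {f g : SU (n + 4) F q →* H}
    (h1 : ∀ x : SU (n + 3) F q, f (emb hF 1 (by omega) x) = g (emb hF 1 (by omega) x))
    (h2 : ∀ x : SU 2 F q, f (emb hF 0 (by omega) x) = g (emb hF 0 (by omega) x)) : f = g := by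
  refine MonoidHom.eq_of_eqOn_dense (closure_eq_top_orth hF n) ?_
  rintro _ (⟨x, rfl⟩ | ⟨x, rfl⟩)
  · exact h1 x
  · exact h2 x

/-! ### the cyclic permutation -/

/-- the Weyl element `e0 ↦ e1`, `e1 ↦ -e0` -/
def wey (hF : Fintype.card F = q ^ 2) : SU 2 F q :=
  su2 hF 0 1 (by rw [zero_mul, zero_add, one_pow, one_mul])

theorem mat_wey (hF : Fintype.card F = q ^ 2) : mat (wey hF) = !![0, -1; 1, 0] := by
  rw [wey, mat_su2, one_pow, zero_pow_q hF]

/-- the cyclic permutation carries the first block to the second -/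
theorem cyc_conj (hF : Fintype.card F = q ^ 2) (a : SU 2 F q) :
    (emb hF 0 (by omega : 0 + 2 ≤ 3) (wey hF) * emb hF 1 (by omega : 1 + 2 ≤ 3) (wey hF)) *
      emb hF 0 (by omega : 0 + 2 ≤ 3) a =
    emb hF 1 (by omega : 1 + 2 ≤ 3) a *
      (emb hF 0 (by omega : 0 + 2 ≤ 3) (wey hF) * emb hF 1 (by omega : 1 + 2 ≤ 3) (wey hF)) := by
  apply mat_inj
  simp only [mat_mul]
  rw [mat_emb_zero_three, mat_emb_one_three, mat_emb_zero_three, mat_emb_one_three, mat_wey]
  ext i j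
  fin_cases i <;> fin_cases j <;>
    simp [Matrix.mul_apply, Fin.sum_univ_three]

theorem wey_orth (hF : Fintype.card F = q ^ 2) {n : ℕ} :
    orth (e0 (n + 1) F q) (emb hF 0 (by omega : 0 + 2 ≤ n + 2) (wey hF) • e0 (n + 1) F q) := by
  rw [orth, herm_e0_left, emb_zero_e0, Fin.cons_zero, mat_wey]
  change (0 : F) ^ q = 0
  exact zero_pow_q hF

/-- **The inductive step.** -/
theorem exists_extension_orth (hF : Fintype.card F = q ^ 2) (n : ℕ)
    (hn : 7 ≤ n + 4 ∨ (6 ≤ n + 4 ∧ 3 ≤ q)) {H : Type*} [Group H]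
    (α : SU (n + 3) F q →* H) (γ : SU 3 F q →* H)
    (hα : ∀ x : SU 2 F q, γ (emb hF 1 (by omega) x) = α (emb hF 0 (by omega) x))
    (hc : ∀ (c : SU (n + 2) F q) (a : SU 2 F q),
      α (emb hF 1 (by omega) c) * γ (emb hF 0 (by omega) a) =
        γ (emb hF 0 (by omega) a) * α (emb hF 1 (by omega) c)) :
    ∃ Φ : SU (n + 4) F q →* H, (∀ x : SU (n + 3) F q, Φ (emb hF 1 (by omega) x) = α x) ∧
      ∀ x : SU 2 F q, Φ (emb hF 0 (by omega) x) = γ (emb hF 0 (by omega) x) := by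
  set φ : SU 2 F q →* H := γ.comp (emb hF 0 (by omega)) with hφ
  have hφa : ∀ a, φ a = γ (emb hF 0 (by omega) a) := fun a => rfl
  -- relations between the embeddings
  have r1 : ∀ t : SU 2 F q, emb hF 1 (by omega : 1 + (n + 3) ≤ n + 4)
      (emb hF 0 (by omega : 0 + 2 ≤ n + 3) t) =
      emb hF 0 (by omega : 0 + 3 ≤ n + 4) (emb hF 1 (by omega : 1 + 2 ≤ 3) t) := by
    intro t
    rw [emb_emb, emb_emb]
  have r2 : ∀ a : SU 2 F q, emb hF 0 (by omega : 0 + 2 ≤ n + 4) a =
      emb hF 0 (by omega : 0 + 3 ≤ n + 4) (emb hF 0 (by omega : 0 + 2 ≤ 3) a) := by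
    intro a
    rw [emb_emb]
  have r3 : ∀ (c : SU (n + 2) F q) (a : SU 2 F q),
      emb hF 1 (by omega : 1 + (n + 3) ≤ n + 4) (emb hF 1 (by omega : 1 + (n + 2) ≤ n + 3) c) *
        emb hF 0 (by omega : 0 + 2 ≤ n + 4) a =
      emb hF 0 (by omega : 0 + 2 ≤ n + 4) a *
        emb hF 1 (by omega : 1 + (n + 3) ≤ n + 4)
          (emb hF 1 (by omega : 1 + (n + 2) ≤ n + 3) c) := by
    intro c a
    rw [emb_emb, emb_comm]
    right
    omega
  have hyp : (octx hF (n + 1) α φ).Hyp := by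
    refine octx_hyp hF (n + 1) α φ ?_
    intro k a b ha e
    obtain ⟨t, c, hk, e3⟩ := decomp_of_map hF k a b ha e
    have hfix : ((emb hF 0 (by omega : 0 + 2 ≤ 3) b)⁻¹ * (emb hF 1 (by omega : 1 + 2 ≤ 3) t *
        emb hF 0 (by omega : 0 + 2 ≤ 3) a)) • e0 2 F q = e0 2 F q := by
      rw [mul_smul, mul_smul, e3, inv_smul_smul]
    obtain ⟨d, hd⟩ := exists_emb_of_fix hF _ hfix
    have hd' : emb hF 1 (by omega : 1 + 2 ≤ 3) t * emb hF 0 (by omega : 0 + 2 ≤ 3) a =
        emb hF 0 (by omega : 0 + 2 ≤ 3) b * emb hF 1 (by omega : 1 + 2 ≤ 3) d := by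
      rw [hd, mul_inv_cancel_left]
    refine ⟨emb hF 0 (by omega) d * emb hF 1 (by omega) c, ?_, ?_⟩
    · rw [hk, map_mul, map_mul, mul_assoc, r3, ← mul_assoc, ← mul_assoc, r1, r1, r2 a, r2 b,
        ← map_mul, ← map_mul, hd']
    · rw [hk, map_mul, map_mul, hφa, hφa, mul_assoc, hc, ← mul_assoc, ← mul_assoc, ← hα, ← hα,
        ← map_mul, ← map_mul, hd']
  -- the third subgroup
  have hB : ∀ b : SU 3 F q, orth (e0 (n + 3) F q)
      (emb hF 0 (by omega : 0 + 3 ≤ n + 4) b • e0 (n + 3) F q) →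
      (octx hF (n + 1) α φ).E (emb hF 0 (by omega : 0 + 3 ≤ n + 4) b, γ b) := by
    intro b hb
    have hb3 := adj_emb_three hF b (adj_of_orth hb)
    obtain ⟨k, a, hka⟩ := exists_of_adj hF (n := 0) _ hb3
    have hfix : ((emb hF 1 (by omega : 1 + 2 ≤ 3) k * emb hF 0 (by omega : 0 + 2 ≤ 3) a)⁻¹ * b) •
        e0 2 F q = e0 2 F q := by
      rw [mul_smul, inv_smul_eq_iff, mul_smul]
      exact hka.symm
    obtain ⟨l, hl⟩ := exists_emb_of_fix hF _ hfix
    have hbe : b = emb hF 1 (by omega : 1 + 2 ≤ 3) k * emb hF 0 (by omega : 0 + 2 ≤ 3) a *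
        emb hF 1 (by omega : 1 + 2 ≤ 3) l := by
      rw [hl, mul_inv_cancel_left]
    have hpos : emb hF 0 (by omega : 0 + 3 ≤ n + 4) b =
        emb hF 1 (by omega : 1 + (n + 3) ≤ n + 4) (emb hF 0 (by omega : 0 + 2 ≤ n + 3) k) *
          emb hF 0 (by omega : 0 + 2 ≤ n + 4) a *
          emb hF 1 (by omega : 1 + (n + 3) ≤ n + 4) (emb hF 0 (by omega : 0 + 2 ≤ n + 3) l) := by
      rw [r1, r1, r2, ← map_mul, ← map_mul, ← hbe]
    refine ⟨emb hF 0 (by omega) k, a, emb hF 0 (by omega) l, ?_, ?_⟩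
    · -- `a e0` is orthogonal to `e0`
      have h5 : emb hF 0 (by omega : 0 + 3 ≤ n + 4) b • e0 (n + 3) F q =
          emb hF 1 (by omega : 1 + (n + 3) ≤ n + 4) (emb hF 0 (by omega : 0 + 2 ≤ n + 3) k) •
            emb hF 0 (by omega : 0 + 2 ≤ n + 4) a • e0 (n + 3) F q := by
        rw [hpos, mul_smul, mul_smul, emb_one_e0]
      rw [h5] at hb
      have h6 := orth_smul (emb hF 1 (by omega : 1 + (n + 3) ≤ n + 4)
        (emb hF 0 (by omega : 0 + 2 ≤ n + 3) k))⁻¹ hb
      rw [inv_smul_smul, ← map_inv, emb_one_e0] at h6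
      exact h6
    · refine Prod.ext hpos ?_
      change γ b = α (emb hF 0 (by omega) k) * φ a * α (emb hF 0 (by omega) l)
      rw [← hα, ← hα, hφa, ← map_mul, ← map_mul, ← hbe]
  -- triangles
  have htri : ∀ u v w : Pt (n + 4) F q, orth u v → orth u w → orth v w →
      (octx hF (n + 1) α φ).Tri u v w := by
    intro v x u hvx hvu hxu
    obtain ⟨g, x₁, x₂, x₃, h1, h2, h3⟩ := exists_frame hF v x u hvx (by
      have e1 : hermForm (n + 4) F q v.val u.val = 0 := hvu
      have e2 : hermForm (n + 4) F q x.val u.val = 0 := hxu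
      rw [e1, e2, mul_zero, mul_zero, add_zero]
      exact zero_ne_one)
    rw [← h1, ← h2, ← h3]
    apply hyp.tri_smul
    refine hyp.tri_of_hom (emb hF 0 (by omega : 0 + 3 ≤ n + 4)) γ hB x₁ x₂ x₃ ?_ ?_ ?_
    · have := orth_smul g⁻¹ hvx
      rw [← h1, ← h2, inv_smul_smul, inv_smul_smul] at this
      exact this
    · have := orth_smul g⁻¹ hvu
      rw [← h1, ← h3, inv_smul_smul, inv_smul_smul] at this
      exact this
    · have := orth_smul g⁻¹ hxu
      rw [← h2, ← h3, inv_smul_smul, inv_smul_smul] at this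
      exact this
  -- paths
  have hpath : ∀ w u u' : Pt (n + 4) F q, orth (e0 (n + 3) F q) u → orth u w →
      orth (e0 (n + 3) F q) u' → orth u' w →
      Relation.ReflTransGen (fun a b => orth a b ∧ orth (e0 (n + 3) F q) b ∧ orth b w) u u' := by
    intro w u u' h1 h2 h3 h4
    rcases hn with hn | ⟨hn, hq⟩
    · obtain ⟨m, rfl⟩ : ∃ m, n = m + 3 := ⟨n - 3, by omega⟩
      obtain ⟨v, v1, v2, v3, v4⟩ := exists_nbr_four hF (n := m) (e0 (m + 3 + 3) F q) w u u' h1
      exact (Relation.ReflTransGen.single ⟨v3, v1, v2⟩).tail ⟨v4, h3, h4⟩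
    · obtain ⟨m, rfl⟩ : ∃ m, n = m + 2 := ⟨n - 2, by omega⟩
      obtain ⟨x, x1, x2, x3, x4⟩ := exists_step hF hq (n := m) (e0 (m + 2 + 3) F q) w u u' h1
      obtain ⟨v, v1, v2, v3, v4⟩ := exists_nbr_adj hF (n := m) (e0 (m + 2 + 3) F q) w x u' x1 h3 x4
      exact ((Relation.ReflTransGen.single ⟨x3, x1, x2⟩).tail ⟨v3, v1, v2⟩).tail ⟨v4, h3, h4⟩
  obtain ⟨Φ, hΦ1, hΦ2⟩ := Cover2.exists_hom_of_same hyp htri
    (fun w => exists_nbr hF (n := n) (e0 (n + 3) F q) w)
    (fun w w' h => by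
      obtain ⟨m, rfl⟩ : ∃ m, n = m + 1 := ⟨n - 1, by omega⟩
      exact exists_nbr_edge hF (n := m) (e0 (m + 1 + 3) F q) w w' h)
    (fun w u u' h1 h2 h3 h4 => (Cover2.same_of_path hyp htri h1 h2 (hpath w u u' h1 h2 h3 h4)).1)
  have hΦ1' : ∀ x : SU (n + 3) F q, Φ (emb hF 1 (by omega) x) = α x := hΦ1
  refine ⟨Φ, hΦ1', ?_⟩
  -- the equalizer
  have e1 : ∀ t : SU 2 F q, Φ (emb hF 0 (by omega : 0 + 3 ≤ n + 4)
      (emb hF 1 (by omega : 1 + 2 ≤ 3) t)) = γ (emb hF 1 (by omega : 1 + 2 ≤ 3) t) := by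
    intro t
    rw [← r1, hΦ1', hα]
  have e2 : Φ (emb hF 0 (by omega : 0 + 3 ≤ n + 4) (emb hF 0 (by omega : 0 + 2 ≤ 3) (wey hF))) =
      γ (emb hF 0 (by omega : 0 + 2 ≤ 3) (wey hF)) := by
    rw [← r2]
    exact hΦ2 (wey hF) (wey_orth hF (n := n + 2))
  intro a
  rw [r2]
  set β : SU 3 F q →* H := Φ.comp (emb hF 0 (by omega : 0 + 3 ≤ n + 4)) with hβ
  change β (emb hF 0 (by omega : 0 + 2 ≤ 3) a) = _
  have e1' : ∀ t : SU 2 F q, β (emb hF 1 (by omega : 1 + 2 ≤ 3) t) =
      γ (emb hF 1 (by omega : 1 + 2 ≤ 3) t) := e1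
  have e2' : β (emb hF 0 (by omega : 0 + 2 ≤ 3) (wey hF)) =
      γ (emb hF 0 (by omega : 0 + 2 ≤ 3) (wey hF)) := e2
  have h7 := congrArg β (cyc_conj hF a)
  have h8 := congrArg γ (cyc_conj hF a)
  simp only [map_mul] at h7 h8
  rw [e1', e1', e2', ← h8] at h7
  exact mul_left_cancel h7

end Cfsg.Agent.H434
end
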