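import Cfsg.Agent.H434.Orth
import Cfsg.Agent.Phan.Three
set_option linter.all false

/-!
# Phan systems over the field with nine elements, rank at least four

`exists_hom_three_all` : a system of rank `n + 5` in which no three consecutive members have a common centralising element of
order three extends to `SU (n+5)`.
-/

set_option autoImplicit false

namespace Cfsg.Agent.H434

open Matrix Cfsg Cfsg.Agent.Phan
open Cfsg.Agent.LieClassical.HermBasic

variable {F : Type*} [Field F] [Fintype F]

theorem exists_hom_three_all {hF : Fintype.card F = 3 ^ 2} (n : ℕ) {H : Type*} [Group H]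
    {φ : ℕ → (SU 2 F 3 →* H)} {g : ℕ → (SU 3 F 3 →* H)} (h : System hF (n + 5) φ g)
    (hz : ∀ k, k + 4 ≤ n + 5 → Hz fun j => φ (k + j)) :
    ∃ Φ : SU (n + 5) F 3 →* H, ∀ (k : ℕ) (hk : k + 3 ≤ n + 5) (x : SU 3 F 3),
      Φ (emb hF k hk x) = g k x := by
  induction n generalizing φ g with
  | zero =>
    refine System.exists_hom_three h ?_ (hz 1 (by omega))
    have := hz 0 (by omega)
    simpa using this
  | succ n ih =>
    have h' : System hF (n + 5) (fun k => φ (k + 1)) (fun k => g (k + 1)) :=
      ⟨fun k hk a => h.left (k + 1) (by omega) a, fun k hk a => h.right (k + 1) (by omega) a,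
        fun i j hij hj a b => h.comm (i + 1) (j + 1) (by omega) (by omega) a b⟩
    obtain ⟨α, hα⟩ := ih h' (by
      intro k hk
      have := hz (k + 1) (by omega)
      have e : (fun j => φ (k + 1 + j)) = fun j => φ (k + j + 1) := by
        funext j
        congr 1
        omega
      rw [e] at this
      exact this)
    have hαφ : ∀ (j : ℕ) (hj : j + 2 ≤ n + 5) (x : SU 2 F 3), α (emb hF j hj x) = φ (j + 1) x := by
      intro j hj x
      by_cases hj' : j + 3 ≤ n + 5
      · have e : emb hF j hj x = emb hF j hj' (emb hF 0 (by omega : 0 + 2 ≤ 3) x) := by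
          rw [emb_emb]
          exact emb_congr hF _ _ (by omega) x
        rw [e, hα, h.left (j + 1) (by omega)]
      · obtain ⟨i, rfl⟩ : ∃ i, j = i + 1 := ⟨j - 1, by omega⟩
        have e : emb hF (i + 1) hj x =
            emb hF i (by omega : i + 3 ≤ n + 5) (emb hF 1 (by omega : 1 + 2 ≤ 3) x) := by
          rw [emb_emb]
        rw [e, hα, h.right (i + 1) (by omega)]
    have hc : ∀ (c : SU (n + 4) F 3) (a : SU 2 F 3),
        α (emb hF 1 (by omega) c) * g 0 (emb hF 0 (by omega) a) =
          g 0 (emb hF 0 (by omega) a) * α (emb hF 1 (by omega) c) := by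
      intro c a
      have hc : c ∈ Subgroup.closure {y : SU (n + 2 + 2) F 3 | ∃ (j : ℕ) (h : j + 2 ≤ n + 2 + 2)
          (x : SU 2 F 3), emb hF j h x = y} := by
        rw [closure_emb_eq_top hF (by omega) (n + 2)]; trivial
      rw [h.left 0 (by omega)]
      have key : ∀ c ∈ Subgroup.closure {y : SU (n + 2 + 2) F 3 | ∃ (j : ℕ) (h : j + 2 ≤ n + 2 + 2)
          (x : SU 2 F 3), emb hF j h x = y},
          Commute (α (emb hF 1 (by omega : 1 + (n + 4) ≤ n + 5) c)) (φ 0 a) := by
        intro c hc
        induction hc using Subgroup.closure_induction with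
        | mem y hy =>
          obtain ⟨j, hj, x, rfl⟩ := hy
          rw [emb_emb, hαφ (1 + j) (by omega)]
          exact (h.comm 0 (1 + j + 1) (by omega) (by omega) a x).symm
        | one => rw [map_one, map_one]; exact Commute.one_left _
        | mul x y _ _ hx hy => rw [map_mul, map_mul]; exact hx.mul_left hy
        | inv x _ hx => rw [map_inv, map_inv]; exact hx.inv_left
      exact key c hc
    obtain ⟨Φ, hΦ1, hΦ2⟩ := exists_extension_orth hF (n + 2) (Or.inr ⟨by omega, le_rfl⟩) α (g 0) (by
      intro x
      rw [h.right 0 (by omega), hαφ 0 (by omega)]) hc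
    have hΦ1' : ∀ x : SU (n + 5) F 3, Φ (emb hF 1 (by omega) x) = α x := hΦ1
    have hΦ2' : ∀ x : SU 3 F 3, Φ (emb hF 0 (by omega) x) = g 0 x := by
      have hext : Φ.comp (emb hF 0 (by omega : 0 + 3 ≤ n + 6)) = g 0 := by
        refine hom_ext hF le_rfl 0 ?_ ?_
        · intro x
          change Φ (emb hF 0 (by omega : 0 + 3 ≤ n + 6) (emb hF 1 (by omega : 1 + 2 ≤ 3) x)) = _
          have e : emb hF 0 (by omega : 0 + 3 ≤ n + 6) (emb hF 1 (by omega : 1 + 2 ≤ 3) x) =
              emb hF 1 (by omega : 1 + (n + 5) ≤ n + 6) (emb hF 0 (by omega : 0 + 2 ≤ n + 5) x) := by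
            rw [emb_emb, emb_emb]
          rw [e, hΦ1', hαφ 0 (by omega), ← h.right 0 (by omega)]
        · intro x
          change Φ (emb hF 0 (by omega : 0 + 3 ≤ n + 6) (emb hF 0 (by omega : 0 + 2 ≤ 3) x)) = _
          have e : emb hF 0 (by omega : 0 + 3 ≤ n + 6) (emb hF 0 (by omega : 0 + 2 ≤ 3) x) =
              emb hF 0 (by omega : 0 + 2 ≤ n + 6) x := by
            rw [emb_emb]
          rw [e]
          exact hΦ2 x
      intro x
      rw [← hext]
      rfl
    refine ⟨Φ, ?_⟩
    intro k hk x
    by_cases hk0 : k = 0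
    · subst hk0
      exact hΦ2' x
    · obtain ⟨i, rfl⟩ : ∃ i, k = i + 1 := ⟨k - 1, by omega⟩
      have e : emb hF (i + 1) hk x = emb hF 1 (by omega : 1 + (n + 5) ≤ n + 1 + 5)
          (emb hF i (by omega : i + 3 ≤ n + 5) x) := by
        rw [emb_emb]
        exact emb_congr hF _ _ (by omega) x
      rw [e]
      exact (hΦ1' _).trans (hα i _ x)

/-- no central element of order three in a quotient of `SU 4` -/
theorem center_quotient_three (hF : Fintype.card F = 3 ^ 2) {K : Type*} [Group K]
    (f : SU 4 F 3 →* K) (hf : Function.Surjective f) (x : K) (hx : x ∈ Subgroup.center K)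
    (h3 : x ^ 3 = 1) : x = 1 := by
  have hperf := Cfsg.Agent.LieClassical.HermPerfect.commutator_SU_eq_top hF (n := 4) (by norm_num)
    (by norm_num)
  set N : Subgroup (SU 4 F 3) := (Subgroup.center K).comap f with hN
  by_cases hc : N ≤ Subgroup.center (SU 4 F 3)
  · obtain ⟨y, rfl⟩ := hf x
    have hy : y ∈ Subgroup.center (SU 4 F 3) := hc hx
    have h1 := Cfsg.Agent.S0280.card_center hF 4 (by norm_num)
    have h2 : (⟨y, hy⟩ : Subgroup.center (SU 4 F 3)) ^
        Nat.card (Subgroup.center (SU 4 F 3)) = 1 := pow_card_eq_one'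
    rw [h1] at h2
    have h4 : y ^ 4 = 1 := by
      have := congrArg Subtype.val h2
      simpa using this
    have h5 : f y ^ 4 = 1 := by rw [← map_pow, h4, map_one]
    calc f y = f y ^ 4 * (f y ^ 3)⁻¹ := by group
      _ = 1 := by rw [h5, h3, inv_one, one_mul]
  · have hNn : N.Normal := Subgroup.Normal.comap inferInstance f
    have htop := Cfsg.Agent.LieClassical.HermSimple.normal_eq_top_of_perfect hF (by norm_num) hperf hc
    -- `K` is abelian and perfect
    have hab : Subgroup.center K = ⊤ := by
      rw [eq_top_iff]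
      intro k _
      obtain ⟨y, rfl⟩ := hf k
      have : y ∈ N := by rw [htop]; trivial
      exact this
    have h1 : commutator K = ⊥ := by
      rw [commutator_def, Subgroup.commutator_eq_bot_iff_le_centralizer,
        Subgroup.centralizer_eq_top_iff_subset.2 (by rw [hab])]
    have h2 : commutator K = ⊤ := by
      have h3 := Subgroup.map_commutator (⊤ : Subgroup (SU 4 F 3)) ⊤ f
      rw [← commutator_def, hperf, Subgroup.map_top_of_surjective f hf, ← commutator_def] at h3
      exact h3.symm
    rw [h1] at h2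
    have : x ∈ (⊥ : Subgroup K) := by rw [h2]; trivial
    exact this

end Cfsg.Agent.H434
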